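import Mathlib

/-!
# Universal closedness is detected by affine spaces (quasi-compact morphisms)
-/

universe u

namespace Groth.Agent.UnivClosed

open CategoryTheory CategoryTheory.Limits AlgebraicGeometry TensorProduct

section Algebra

variable {R B A : Type u} [CommRing R] [CommRing B] [CommRing A] [Algebra R B] [Algebra R A]

/-- The map `B ⊗ A₀ → B ⊗ A`. -/
noncomputable def θ (A₀ : Subalgebra R A) : B ⊗[R] A₀ →+* B ⊗[R] A :=
  (Algebra.TensorProduct.map (AlgHom.id R B) A₀.val).toRingHom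

lemma θ_tmul (A₀ : Subalgebra R A) (b : B) (a : A₀) : θ A₀ (b ⊗ₜ[R] a) = b ⊗ₜ[R] (a : A) := rfl

lemma exists_lift (x : B ⊗[R] A) :
    ∃ F : Finset A, ∀ A₀ : Subalgebra R A, (F : Set A) ⊆ A₀ → ∃ x₀, θ A₀ x₀ = x := by
  classical
  induction x with
  | zero => exact ⟨∅, fun A₀ _ => ⟨0, map_zero _⟩⟩
  | tmul b a => exact ⟨{a}, fun A₀ h => ⟨b ⊗ₜ ⟨a, h (by simp)⟩, rfl⟩⟩
  | add x y hx hy =>
    obtain ⟨F, hF⟩ := hx
    obtain ⟨G, hG⟩ := hy
    refine ⟨F ∪ G, fun A₀ h => ?_⟩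
    rw [Finset.coe_union, Set.union_subset_iff] at h
    obtain ⟨x₀, hx₀⟩ := hF A₀ h.1
    obtain ⟨y₀, hy₀⟩ := hG A₀ h.2
    exact ⟨x₀ + y₀, by rw [map_add, hx₀, hy₀]⟩

lemma exists_lift_map (p : Ideal A) (y : B ⊗[R] A)
    (hy : y ∈ p.map (Algebra.TensorProduct.includeRight (R := R) (A := B)).toRingHom) :
    ∃ F : Finset A, ∀ A₀ : Subalgebra R A, (F : Set A) ⊆ A₀ →
      ∃ y₀ ∈ (p.comap A₀.val.toRingHom).map
        (Algebra.TensorProduct.includeRight (R := R) (A := B) (B := A₀)).toRingHom, θ A₀ y₀ = y := by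
  classical
  change y ∈ Submodule.span _ _ at hy
  induction hy using Submodule.span_induction with
  | mem y hy =>
    obtain ⟨a, ha, rfl⟩ := hy
    refine ⟨{a}, fun A₀ h => ?_⟩
    exact ⟨_, Ideal.mem_map_of_mem _ (show (⟨a, h (by simp)⟩ : A₀) ∈ p.comap A₀.val.toRingHom from ha), rfl⟩
  | zero => exact ⟨∅, fun A₀ _ => ⟨0, zero_mem _, map_zero _⟩⟩
  | add x y _ _ hx hy =>
    obtain ⟨F, hF⟩ := hx
    obtain ⟨G, hG⟩ := hy
    refine ⟨F ∪ G, fun A₀ h => ?_⟩
    rw [Finset.coe_union, Set.union_subset_iff] at h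
    obtain ⟨x₀, hx, hx₀⟩ := hF A₀ h.1
    obtain ⟨y₀, hy, hy₀⟩ := hG A₀ h.2
    exact ⟨x₀ + y₀, add_mem hx hy, by rw [map_add, hx₀, hy₀]⟩
  | smul c y _ hy =>
    obtain ⟨F, hF⟩ := exists_lift c
    obtain ⟨G, hG⟩ := hy
    refine ⟨F ∪ G, fun A₀ h => ?_⟩
    rw [Finset.coe_union, Set.union_subset_iff] at h
    obtain ⟨c₀, hc₀⟩ := hF A₀ h.1
    obtain ⟨y₀, hy, hy₀⟩ := hG A₀ h.2
    exact ⟨c₀ * y₀, Ideal.mul_mem_left _ c₀ hy, by rw [map_mul, hc₀, hy₀]; rfl⟩

/-- An equation that keeps a closed subset away from a fibre already exists over a finitely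
generated subalgebra. -/
lemma exists_element (J : Ideal (B ⊗[R] A)) (p : Ideal A) [p.IsPrime]
    (h : ∀ Q : Ideal (B ⊗[R] A), Q.IsPrime → J ≤ Q →
      Q.comap (Algebra.TensorProduct.includeRight (R := R) (A := B)).toRingHom ≠ p) :
    ∃ F : Finset A, ∀ A₀ : Subalgebra R A, (F : Set A) ⊆ A₀ → ∃ a₀ : B ⊗[R] A₀, θ A₀ a₀ ∈ J ∧
      ∀ Q₀ : Ideal (B ⊗[R] A₀), Q₀.IsPrime → a₀ ∈ Q₀ →
        Q₀.comap (Algebra.TensorProduct.includeRight (R := R) (A := B) (B := A₀)).toRingHom ≠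
          p.comap A₀.val.toRingHom := by
  classical
  let i := (Algebra.TensorProduct.includeRight (R := R) (A := B) (B := A)).toRingHom
  have hmeet : ¬ Disjoint ((J ⊔ p.map i : Ideal (B ⊗[R] A)) : Set (B ⊗[R] A))
      (p.primeCompl.map i : Submonoid (B ⊗[R] A)) := by
    intro hd
    obtain ⟨Q, hQ, hle, hdis⟩ := Ideal.exists_le_prime_disjoint _ _ hd
    refine h Q hQ (le_sup_left.trans hle) (le_antisymm ?_ ?_)
    · intro a ha
      by_contra hap
      exact Set.disjoint_left.mp hdis (show i a ∈ Q from ha) ⟨a, hap, rfl⟩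
    · exact Ideal.map_le_iff_le_comap.mp (le_sup_right.trans hle)
  obtain ⟨_, hsum, g, hg, rfl⟩ := Set.not_disjoint_iff.mp hmeet
  obtain ⟨j, hj, y, hy, hjy⟩ := Submodule.mem_sup.mp hsum
  obtain ⟨F, hF⟩ := exists_lift_map p y hy
  refine ⟨insert g F, fun A₀ h => ?_⟩
  rw [Finset.coe_insert, Set.insert_subset_iff] at h
  obtain ⟨y₀, hy₀, hy₀e⟩ := hF A₀ h.2
  let i₀ := (Algebra.TensorProduct.includeRight (R := R) (A := B) (B := A₀)).toRingHom
  refine ⟨i₀ ⟨g, h.1⟩ - y₀, ?_, fun Q₀ hQ₀ ha₀ hQp => ?_⟩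
  · have : θ A₀ (i₀ ⟨g, h.1⟩ - y₀) = j := by
      rw [map_sub, hy₀e]
      exact sub_eq_iff_eq_add.mpr hjy.symm
    exact this ▸ hj
  · have hy' : y₀ ∈ Q₀ := (Ideal.map_le_iff_le_comap.mpr hQp.ge) hy₀
    have : (⟨g, h.1⟩ : A₀) ∈ Q₀.comap i₀ := by
      have := add_mem ha₀ hy'
      rwa [sub_add_cancel] at this
    rw [hQp] at this
    exact hg this

end Algebra

section Maps

@[reassoc] lemma map_fst {W X Y Z S T : Scheme.{u}} (f₁ : W ⟶ S) (f₂ : X ⟶ S) (g₁ : Y ⟶ T)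
    (g₂ : Z ⟶ T) (i₁ : W ⟶ Y) (i₂ : X ⟶ Z) (i₃ : S ⟶ T) (e₁ : f₁ ≫ i₃ = i₁ ≫ g₁)
    (e₂ : f₂ ≫ i₃ = i₂ ≫ g₂) :
    pullback.map f₁ f₂ g₁ g₂ i₁ i₂ i₃ e₁ e₂ ≫ pullback.fst g₁ g₂ = pullback.fst f₁ f₂ ≫ i₁ :=
  pullback.lift_fst _ _ _

@[reassoc] lemma map_snd {W X Y Z S T : Scheme.{u}} (f₁ : W ⟶ S) (f₂ : X ⟶ S) (g₁ : Y ⟶ T)
    (g₂ : Z ⟶ T) (i₁ : W ⟶ Y) (i₂ : X ⟶ Z) (i₃ : S ⟶ T) (e₁ : f₁ ≫ i₃ = i₁ ≫ g₁)
    (e₂ : f₂ ≫ i₃ = i₂ ≫ g₂) :
    pullback.map f₁ f₂ g₁ g₂ i₁ i₂ i₃ e₁ e₂ ≫ pullback.snd g₁ g₂ = pullback.snd f₁ f₂ ≫ i₂ :=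
  pullback.lift_snd _ _ _

/-- Closedness of a map is inherited by its base change along an embedding. -/
lemma isClosedMap_pullback_comp {X S T T' : Scheme.{u}} (f : X ⟶ S) (g : T ⟶ S) (i : T' ⟶ T)
    [IsPreimmersion i] (h : IsClosedMap (pullback.snd f g)) :
    IsClosedMap (pullback.snd f (i ≫ g)) := by
  let j : pullback f (i ≫ g) ⟶ pullback f g :=
    pullback.map f (i ≫ g) f g (𝟙 X) i (𝟙 S) ((Category.comp_id f).trans (Category.id_comp f).symm)
      (Category.comp_id _)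
  have hsnd : j ≫ pullback.snd f g = pullback.snd f (i ≫ g) ≫ i := by simp [j, map_fst, map_snd]
  have hrange : Set.range j = pullback.snd f g ⁻¹' Set.range i := by
    rw [Scheme.Pullback.range_map]
    simp
  haveI : IsPreimmersion j := by
    have hpb : IsPullback j (pullback.snd f (i ≫ g)) (pullback.snd f g) i := by
      refine IsPullback.of_right ?_ hsnd (IsPullback.of_hasPullback f g)
      simpa [j, map_fst] using IsPullback.of_hasPullback f (i ≫ g)
    exact MorphismProperty.of_isPullback hpb.flip inferInstance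
  intro C hC
  obtain ⟨C', hC', hCC'⟩ := j.isEmbedding.isInducing.isClosed_iff.mp hC
  have : pullback.snd f (i ≫ g) '' C = i ⁻¹' (pullback.snd f g '' C') := by
    ext t
    constructor
    · rintro ⟨x, hx, rfl⟩
      refine ⟨j x, ?_, ?_⟩
      · exact hCC'.ge hx
      · rw [← Scheme.Hom.comp_apply, hsnd]; rfl
    · rintro ⟨z, hz, hzt⟩
      have : z ∈ Set.range j := hrange.ge ⟨t, hzt.symm⟩
      obtain ⟨x, rfl⟩ := this
      refine ⟨x, hCC'.le hz, i.isEmbedding.injective ?_⟩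
      rw [← hzt, ← Scheme.Hom.comp_apply, ← Scheme.Hom.comp_apply, hsnd]
  rw [this]
  exact (h _ hC').preimage i.continuous

variable {X S : Scheme.{u}} (f : X ⟶ S)

/-- Closedness after base change to an affine scheme of finite type over an affine open follows from
closedness after base change to affine spaces. -/
lemma isClosedMap_of_finiteType
    (H : ∀ n : ℕ, IsClosedMap (pullback.snd f (𝔸(ULift.{u} (Fin n); S) ↘ S)))
    {R A : CommRingCat.{u}} (j : Spec R ⟶ S) [IsPreimmersion j] (φ : R ⟶ A)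
    (hφ : φ.hom.FiniteType) :
    IsClosedMap (pullback.snd f (Spec.map φ ≫ j)) := by
  letI := φ.hom.toAlgebra
  haveI : Algebra.FiniteType R A := hφ
  obtain ⟨n, π, hπ⟩ := Algebra.FiniteType.iff_quotient_mvPolynomial''.mp this
  let e : MvPolynomial (ULift.{u} (Fin n)) R →ₐ[R] A :=
    π.comp (MvPolynomial.renameEquiv R Equiv.ulift).toAlgHom
  have he : Function.Surjective e := hπ.comp (MvPolynomial.renameEquiv R Equiv.ulift).surjective
  let k : Spec A ⟶ 𝔸(ULift.{u} (Fin n); S) :=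
    Spec.map (CommRingCat.ofHom e.toRingHom) ≫ (AffineSpace.SpecIso _ R).inv ≫ AffineSpace.map _ j
  haveI : IsPreimmersion (AffineSpace.map (ULift.{u} (Fin n)) j) :=
    MorphismProperty.of_isPullback (AffineSpace.isPullback_map j).flip inferInstance
  haveI : IsClosedImmersion (Spec.map (CommRingCat.ofHom e.toRingHom)) :=
    IsClosedImmersion.spec_of_surjective _ he
  haveI : IsPreimmersion k := inferInstance
  have hk : k ≫ 𝔸(ULift.{u} (Fin n); S) ↘ S = Spec.map φ ≫ j := by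
    simp only [k, Category.assoc, AffineSpace.map_over, AffineSpace.SpecIso_inv_over_assoc,
      ← Spec.map_comp_assoc, ← CommRingCat.ofHom_comp]
    congr 2
    ext r
    exact e.commutes r
  rw [← hk]
  exact isClosedMap_pullback_comp f _ k (H n)

/-- A quasi-compact morphism all of whose base changes to affine spaces are closed is universally
closed. -/
theorem universallyClosed_of_affineSpace [QuasiCompact f]
    (H : ∀ n : ℕ, IsClosedMap (pullback.snd f (𝔸(ULift.{u} (Fin n); S) ↘ S))) :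
    UniversallyClosed f := by
  classical
  rw [universallyClosed_iff]
  intro X' S' g' g f' hpb
  -- reduce to the chosen pullback
  suffices hmain : IsClosedMap (pullback.snd f g) by
    have : f' = hpb.flip.isoPullback.hom ≫ pullback.snd f g := by simp
    rw [topologically]
    rw [this]
    exact hmain.comp (Scheme.Hom.homeomorph hpb.flip.isoPullback.hom).isClosedMap
  intro T hT
  rw [← isOpen_compl_iff, isOpen_iff_forall_mem_open]
  intro s hs
  obtain ⟨_, ⟨U, hU, rfl⟩, hsU, -⟩ :=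
    S.isBasis_affineOpens.exists_subset_of_mem_open (Set.mem_univ (g s)) isOpen_univ
  obtain ⟨_, ⟨W, hW, rfl⟩, hsW, hWU : W ≤ g ⁻¹ᵁ U⟩ :=
    S'.isBasis_affineOpens.exists_subset_of_mem_open (show s ∈ g ⁻¹ᵁ U from hsU) (g ⁻¹ᵁ U).isOpen
  let φ := g.appLE U W hWU
  letI := φ.hom.toAlgebra
  let gA : Spec Γ(S', W) ⟶ S := Spec.map φ ≫ hU.fromSpec
  have hgA : gA = hW.fromSpec ≫ g := IsAffineOpen.SpecMap_appLE_fromSpec g hU hW hWU
  let ι : pullback f gA ⟶ pullback f g :=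
    pullback.map f gA f g (𝟙 X) hW.fromSpec (𝟙 S) ((Category.comp_id f).trans (Category.id_comp f).symm)
      ((Category.comp_id _).trans hgA)
  let sA := hW.primeIdealOf ⟨s, hsW⟩
  have hsA : hW.fromSpec sA = s := hW.fromSpec_primeIdealOf _
  -- affine charts over `U`
  have hcpt : IsCompact (f ⁻¹ᵁ U : Set X) := f.isCompact_preimage hU.isCompact
  have hcov : ∀ x : (f ⁻¹ᵁ U : X.Opens), ∃ V : X.Opens, IsAffineOpen V ∧ x.1 ∈ V ∧ V ≤ f ⁻¹ᵁ U := by
    intro x
    obtain ⟨V, hV, hxV, hVU⟩ := exists_isAffineOpen_mem_and_subset x.2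
    exact ⟨V, hV, hxV, hVU⟩
  choose V hV hxV hVU using hcov
  obtain ⟨t, ht⟩ := hcpt.elim_finite_subcover (fun x => (V x : Set X)) (fun x => (V x).isOpen)
    (fun x hx => Set.mem_iUnion.mpr ⟨⟨x, hx⟩, hxV ⟨x, hx⟩⟩)
  letI := fun x => (f.appLE U (V x) (hVU x)).hom.toAlgebra
  let e : ∀ x (D : CommRingCat.{u}) [Algebra Γ(S, U) D],
      Spec (.of (Γ(X, V x) ⊗[Γ(S, U)] D)) ⟶
        pullback f (Spec.map (CommRingCat.ofHom (algebraMap Γ(S, U) D)) ≫ hU.fromSpec) :=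
    fun x D _ => (pullbackSpecIso Γ(S, U) Γ(X, V x) D).inv ≫
      pullback.map _ _ _ _ (hV x).fromSpec (𝟙 _) hU.fromSpec
        (IsAffineOpen.SpecMap_appLE_fromSpec f hU (hV x) (hVU x)) (by simp)
  have he_fst : ∀ x (D : CommRingCat.{u}) [Algebra Γ(S, U) D], e x D ≫ pullback.fst _ _ =
      Spec.map (CommRingCat.ofHom Algebra.TensorProduct.includeLeftRingHom) ≫ (hV x).fromSpec := by
    intro x D _
    simp [e, map_fst, map_snd]
  have he_snd : ∀ x (D : CommRingCat.{u}) [Algebra Γ(S, U) D], e x D ≫ pullback.snd _ _ =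
      Spec.map (CommRingCat.ofHom (Algebra.TensorProduct.includeRight
        (R := Γ(S, U)) (A := Γ(X, V x))).toRingHom) := by
    intro x D _
    simp [e, map_fst, map_snd]
  have he_open : ∀ x (D : CommRingCat.{u}) [Algebra Γ(S, U) D], IsOpenImmersion (e x D) := by
    intro x D _
    infer_instance
  have he_range : ∀ x (D : CommRingCat.{u}) [Algebra Γ(S, U) D],
      Set.range (e x D) = pullback.fst f _ ⁻¹' (V x : Set X) := by
    intro x D _
    rw [show Set.range (e x D) = Set.range (pullback.map _ _ _ _ (hV x).fromSpec (𝟙 _) hU.fromSpec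
        (IsAffineOpen.SpecMap_appLE_fromSpec f hU (hV x) (hVU x)) (by simp)) from
      Function.Surjective.range_comp (pullbackSpecIso Γ(S, U) Γ(X, V x) D).inv.surjective _]
    rw [Scheme.Pullback.range_map, (hV x).range_fromSpec]
    simp
  let T' : Set (pullback f gA : Scheme.{u}) := ι ⁻¹' T
  have hT' : IsClosed T' := hT.preimage ι.continuous
  have hnoT : ∀ z ∈ T', pullback.snd f gA z ≠ sA := by
    intro z hz hzs
    apply hs
    refine ⟨ι z, hz, ?_⟩
    rw [← Scheme.Hom.comp_apply, show ι ≫ pullback.snd f g = pullback.snd f gA ≫ hW.fromSpec by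
      simp [ι, map_fst, map_snd], Scheme.Hom.comp_apply, hzs, hsA]
  -- one equation per chart
  have hel : ∀ x, ∃ F : Finset Γ(S', W), ∀ A₀ : Subalgebra Γ(S, U) Γ(S', W), (F : Set Γ(S', W)) ⊆ A₀ →
      ∃ a₀ : Γ(X, V x) ⊗[Γ(S, U)] A₀,
        (∀ q : PrimeSpectrum (Γ(X, V x) ⊗[Γ(S, U)] Γ(S', W)), e x Γ(S', W) q ∈ T' →
          θ A₀ a₀ ∈ q.asIdeal) ∧
        ∀ Q₀ : Ideal (Γ(X, V x) ⊗[Γ(S, U)] A₀), Q₀.IsPrime → a₀ ∈ Q₀ →
          Q₀.comap (Algebra.TensorProduct.includeRight (R := Γ(S, U)) (A := Γ(X, V x))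
            (B := A₀)).toRingHom ≠ sA.asIdeal.comap A₀.val.toRingHom := by
    intro x
    obtain ⟨J, hJ⟩ := (PrimeSpectrum.isClosed_iff_zeroLocus_ideal _).mp
      (hT'.preimage (e x Γ(S', W)).continuous)
    obtain ⟨F, hF⟩ := exists_element J sA.asIdeal (by
      intro Q hQ hJQ hQs
      have hmem : (⟨Q, hQ⟩ : PrimeSpectrum _) ∈ (e x Γ(S', W)) ⁻¹' T' := hJ ▸ hJQ
      refine hnoT _ hmem ?_
      rw [← Scheme.Hom.comp_apply]
      erw [he_snd x Γ(S', W)]
      exact PrimeSpectrum.ext hQs)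
    refine ⟨F, fun A₀ h => ?_⟩
    obtain ⟨a₀, ha, hQ⟩ := hF A₀ h
    refine ⟨a₀, fun q hq => ?_, hQ⟩
    have : q ∈ PrimeSpectrum.zeroLocus (J : Set _) := hJ ▸ hq
    exact this ha
  choose F hF using hel
  let A₀ : Subalgebra Γ(S, U) Γ(S', W) := Algebra.adjoin Γ(S, U) ↑(t.biUnion F)
  haveI : Algebra.FiniteType Γ(S, U) A₀ := (Subalgebra.fg_iff_finiteType A₀).mp ⟨_, rfl⟩
  have hFA : ∀ x ∈ t, (F x : Set Γ(S', W)) ⊆ A₀ := fun x hx a ha =>
    Algebra.subset_adjoin (Finset.mem_coe.mpr (Finset.mem_biUnion.mpr ⟨x, hx, ha⟩))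
  let D₀ : CommRingCat.{u} := .of A₀
  let g₀ := Spec.map (CommRingCat.ofHom (algebraMap Γ(S, U) D₀)) ≫ hU.fromSpec
  have hg₀ : IsClosedMap (pullback.snd f g₀) :=
    isClosedMap_of_finiteType f H hU.fromSpec (CommRingCat.ofHom (algebraMap Γ(S, U) D₀))
      (RingHom.finiteType_algebraMap.mpr (inferInstanceAs (Algebra.FiniteType Γ(S, U) A₀)))
  let τ : Spec Γ(S', W) ⟶ Spec D₀ := Spec.map (CommRingCat.ofHom A₀.val.toRingHom)
  have hτ : gA = τ ≫ Spec.map (CommRingCat.ofHom (algebraMap Γ(S, U) D₀)) ≫ hU.fromSpec := by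
    rw [← Spec.map_comp_assoc]
    rfl
  let π : pullback f gA ⟶ pullback f g₀ :=
    pullback.map f gA f g₀ (𝟙 X) τ (𝟙 S) ((Category.comp_id f).trans (Category.id_comp f).symm)
      ((Category.comp_id _).trans hτ)
  have hclosed := hg₀ (closure (π '' T')) isClosed_closure
  have hnot : τ sA ∉ pullback.snd f g₀ '' closure (π '' T') := by
    rintro ⟨z, hz, hzs⟩
    have hzU : pullback.fst f g₀ z ∈ f ⁻¹ᵁ U := by
      change f (pullback.fst f g₀ z) ∈ U
      rw [← Scheme.Hom.comp_apply, pullback.condition, Scheme.Hom.comp_apply]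
      change hU.fromSpec _ ∈ U
      exact hU.range_fromSpec.le (Set.mem_range_self _)
    obtain ⟨x, hxt, hzx⟩ := Set.mem_iUnion₂.mp (ht hzU)
    obtain ⟨a₀, ha₀, hQ₀⟩ := hF x A₀ (hFA x hxt)
    obtain ⟨w, rfl⟩ : z ∈ Set.range (e x D₀) := (he_range x D₀).ge hzx
    haveI := he_open x D₀
    have hw : w ∈ closure ((e x D₀) ⁻¹' (π '' T')) := by
      rw [← (e x D₀).isOpenEmbedding.isOpenMap.preimage_closure_eq_closure_preimage
        (e x D₀).continuous]
      exact hz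
    have hsub : (e x D₀) ⁻¹' (π '' T') ⊆
        PrimeSpectrum.zeroLocus {(a₀ : Γ(X, V x) ⊗[Γ(S, U)] A₀)} := by
      rintro w' ⟨z', hz', hzw⟩
      have hz'x : z' ∈ Set.range (e x Γ(S', W)) := by
        refine (he_range x Γ(S', W)).ge ?_
        have h1 : e x D₀ w' ∈ Set.range (e x D₀) := ⟨w', rfl⟩
        rw [he_range x D₀, ← hzw] at h1
        change pullback.fst f g₀ (π z') ∈ V x at h1
        rw [← Scheme.Hom.comp_apply, show π ≫ pullback.fst f g₀ = pullback.fst f gA by simp [π, map_fst, map_snd]] at h1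
        exact h1
      obtain ⟨q, rfl⟩ := hz'x
      have hcomm : e x Γ(S', W) ≫ π =
          Spec.map (CommRingCat.ofHom (θ (B := Γ(X, V x)) A₀)) ≫ e x D₀ := by
        apply pullback.hom_ext
        · simp only [π, Category.assoc, map_fst, Category.comp_id]
          erw [he_fst x D₀, he_fst x Γ(S', W)]
          rw [← Spec.map_comp_assoc, ← CommRingCat.ofHom_comp]
          congr 3
        · simp only [π, Category.assoc, map_snd]
          erw [reassoc_of% (he_snd x Γ(S', W)), he_snd x D₀]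
          rw [← Spec.map_comp, ← Spec.map_comp, ← CommRingCat.ofHom_comp, ← CommRingCat.ofHom_comp]
          rfl
      have hw' : Spec.map (CommRingCat.ofHom (θ (B := Γ(X, V x)) A₀)) q = w' := by
        apply (e x D₀).isOpenEmbedding.injective
        rw [← hzw, ← Scheme.Hom.comp_apply, ← Scheme.Hom.comp_apply]
        rw [← hcomm]
      subst hw'
      exact (Set.singleton_subset_iff (α := Γ(X, V x) ⊗[Γ(S, U)] A₀)).mpr (ha₀ q hz')
    have hwa : (a₀ : Γ(X, V x) ⊗[Γ(S, U)] A₀) ∈ w.asIdeal :=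
      (closure_minimal hsub (PrimeSpectrum.isClosed_zeroLocus _)) hw (Set.mem_singleton a₀)
    refine hQ₀ w.asIdeal w.isPrime hwa ?_
    rw [← Scheme.Hom.comp_apply] at hzs
    erw [he_snd x D₀] at hzs
    exact congrArg PrimeSpectrum.asIdeal hzs
  refine ⟨hW.fromSpec '' (τ ⁻¹' (pullback.snd f g₀ '' closure (π '' T'))ᶜ), ?_,
    hW.fromSpec.isOpenEmbedding.isOpenMap _ (hclosed.isOpen_compl.preimage τ.continuous),
    ⟨sA, hnot, hsA⟩⟩
  rintro _ ⟨a, ha, rfl⟩ ⟨z, hz, hza⟩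
  have hzr : z ∈ Set.range ι := by
    rw [show Set.range ι = _ from Scheme.Pullback.range_map ..]
    exact ⟨by simp, ⟨a, hza.symm⟩⟩
  obtain ⟨z', rfl⟩ := hzr
  refine ha ⟨π z', subset_closure ⟨z', hz, rfl⟩, ?_⟩
  have hza' : pullback.snd f gA z' = a := by
    apply hW.fromSpec.isOpenEmbedding.injective
    rw [← hza, ← Scheme.Hom.comp_apply, ← Scheme.Hom.comp_apply]
    simp [ι, map_fst, map_snd]
  rw [← Scheme.Hom.comp_apply, show π ≫ pullback.snd f g₀ = pullback.snd f gA ≫ τ by simp [π, map_fst, map_snd],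
    Scheme.Hom.comp_apply, hza']

end Maps

end Groth.Agent.UnivClosed
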