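import Mathlib
import Groth.Agent.DvrDom.Basic
import Groth.Agent.CompLocFin.Basic
import Groth.Agent.S4450

/-!
# Properness detected by discrete valuation rings of the residue fields at generic points
-/

set_option linter.style.haveILetI false

universe u v

namespace Groth.Agent.UnivClosed

open CategoryTheory CategoryTheory.Limits AlgebraicGeometry IsLocalRing

section Local

variable {X : Scheme.{u}} {U : X.Opens} (hU : IsAffineOpen U) {O : CommRingCat.{u}} [IsLocalRing O]

include hU in
/-- A point of a local ring whose closed point lies in an affine open factors through it. -/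
lemma exists_spec_map_eq (m : Spec O ⟶ X) (h : m (closedPoint O) ∈ U) :
    ∃ r : Γ(X, U) ⟶ O, Spec.map r ≫ hU.fromSpec = m := by
  have hr : Set.range m ⊆ Set.range hU.fromSpec := by
    rw [hU.range_fromSpec]
    rintro _ ⟨a, rfl⟩
    exact ((IsLocalRing.specializes_closedPoint a).map m.continuous).mem_open U.isOpen h
  exact ⟨Spec.preimage (IsOpenImmersion.lift hU.fromSpec m hr), by
    rw [Spec.map_preimage, IsOpenImmersion.lift_fac]⟩

lemma spec_map_inj {R : CommRingCat.{u}} {r r' : Γ(X, U) ⟶ R}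
    (h : Spec.map r ≫ hU.fromSpec = Spec.map r' ≫ hU.fromSpec) : r = r' :=
  Spec.map_injective ((cancel_mono hU.fromSpec).mp h)

include hU in
/-- Two points of a local ring in the same affine open which agree after an injection agree. -/
lemma ext_of_mem (l l' : Spec O ⟶ X) (h : l (closedPoint O) ∈ U) (h' : l' (closedPoint O) ∈ U)
    {K : CommRingCat.{u}} (i : O ⟶ K) (hi : Function.Injective i)
    (e : Spec.map i ≫ l = Spec.map i ≫ l') : l = l' := by
  obtain ⟨r, rfl⟩ := exists_spec_map_eq hU l h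
  obtain ⟨r', rfl⟩ := exists_spec_map_eq hU l' h'
  rw [← Spec.map_comp_assoc, ← Spec.map_comp_assoc] at e
  have h1 := spec_map_inj hU e
  congr 2
  ext a
  exact hi (congrArg (fun g : Γ(X, U) ⟶ K => g a) h1)

lemma fromSpecResidueField_eq (x : X) (hx : x ∈ U) :
    X.fromSpecResidueField x = Spec.map (X.evaluation U x hx) ≫ hU.fromSpec := by
  rw [Scheme.fromSpecResidueField, ← hU.fromSpecStalk_eq_fromSpecStalk hx,
    IsAffineOpen.fromSpecStalk, ← Spec.map_comp_assoc]
  rfl

lemma fromSpecStalk_eq' (x : X) (hx : x ∈ U) :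
    X.fromSpecStalk x = Spec.map (X.presheaf.germ U x hx) ≫ hU.fromSpec := by
  rw [← hU.fromSpecStalk_eq_fromSpecStalk hx, IsAffineOpen.fromSpecStalk]

end Local

section Algebra

variable {L : Type v} [Field L]

/-- Elements outside a valuation ring, finitely many, stay outside some discrete valuation ring. -/
lemma exists_dvr_avoiding {R : Type u} [CommRing R] [IsNoetherianRing R] (ι : R →+* L)
    (V : ValuationSubring L) (hι : ∀ r, ι r ∈ V) (G : Finset L)
    (hG : Subfield.closure (Set.range ι ∪ (G : Set L)) = ⊤) (s : Finset L) (hs : s.Nonempty)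
    (hsV : ∀ b ∈ s, b ∉ V) :
    ∃ O : ValuationSubring L, IsDiscreteValuationRing O ∧ (∀ r, ι r ∈ O) ∧ ∀ b ∈ s, b ∉ O := by
  classical
  letI := ι.toAlgebra
  let V' : Subalgebra R L := { V.toSubring with algebraMap_mem' := hι }
  let C : Subalgebra R L := Algebra.adjoin R (((s.image (·⁻¹)) : Finset L) : Set L)
  have hinv : ∀ b ∈ s, b⁻¹ ∈ V := fun b hb => (V.mem_or_inv_mem b).resolve_left (hsV b hb)
  have hCV : C ≤ V' := Algebra.adjoin_le fun c hc => by
    obtain ⟨b, hb, rfl⟩ := Finset.mem_image.mp (Finset.mem_coe.mp hc)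
    exact hinv b hb
  haveI : Algebra.FiniteType R C := (Subalgebra.fg_iff_finiteType C).mp ⟨_, rfl⟩
  haveI : IsNoetherianRing C := Algebra.FiniteType.isNoetherianRing R C
  let j : C →+* V := C.val.toRingHom.codRestrict V.toSubring fun c => hCV c.2
  let p : Ideal C := (maximalIdeal V).comap j
  haveI : p.IsPrime := inferInstance
  have hbC : ∀ b ∈ s, b⁻¹ ∈ C := fun b hb =>
    Algebra.subset_adjoin (Finset.mem_coe.mpr (Finset.mem_image_of_mem _ hb))
  have hne0 : ∀ b ∈ s, b ≠ 0 := fun b hb h0 => hsV b hb (h0 ▸ zero_mem V)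
  have hbp : ∀ b, (hb : b ∈ s) → (⟨b⁻¹, hbC b hb⟩ : C) ∈ p := by
    intro b hb
    change (⟨b⁻¹, _⟩ : V) ∈ maximalIdeal V
    rw [IsLocalRing.mem_maximalIdeal, mem_nonunits_iff]
    rintro ⟨w, hw⟩
    apply hsV b hb
    have h1 : (w : L) * (w⁻¹ : Vˣ) = 1 := congrArg Subtype.val w.mul_inv
    rw [hw] at h1
    rw [show b = ((w⁻¹ : Vˣ) : L) from (inv_mul_eq_one₀ (hne0 b hb)).mp h1]
    exact Subtype.mem _
  let A := Localization.AtPrime p
  letI : Algebra A L := (IsLocalization.lift (M := p.primeCompl) (g := C.val.toRingHom)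
    (fun y => isUnit_iff_ne_zero.mpr fun h0 => y.2 (by
      rw [show (y : C) = 0 from Subtype.ext h0]; exact zero_mem p))).toAlgebra
  have hCA : ∀ c : C, algebraMap A L (algebraMap C A c) = c := fun c => IsLocalization.lift_eq _ c
  have hinj : Function.Injective (algebraMap A L) :=
    IsLocalization.lift_injective_iff _ |>.mpr fun x y =>
      ⟨fun h => (hCA x).symm.trans ((congrArg _ h).trans (hCA y)), fun h => congrArg _ (Subtype.ext h)⟩
  haveI : IsDomain A := IsLocalization.isDomain_of_atPrime A p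
  obtain ⟨b₀, hb₀⟩ := hs
  have hmax : ∀ b, (hb : b ∈ s) → algebraMap C A ⟨b⁻¹, hbC b hb⟩ ∈ maximalIdeal A := fun b hb =>
    (IsLocalization.AtPrime.to_map_mem_maximal_iff A p _).mpr (hbp b hb)
  have hA : ¬ IsField A := fun hF => by
    have h1 := hmax b₀ hb₀
    rw [IsLocalRing.isField_iff_maximalIdeal_eq.mp hF, Ideal.mem_bot] at h1
    have h2 := congrArg (algebraMap A L) h1
    rw [hCA, map_zero] at h2
    exact inv_ne_zero (hne0 b₀ hb₀) h2
  obtain ⟨O, hO, hAO, hdom⟩ := DvrDom.exists_dvr A hA hinj G (top_le_iff.mp (hG ▸ Subfield.closure_mono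
    (Set.union_subset_union_left _ (by
      rintro _ ⟨r, rfl⟩
      exact ⟨algebraMap C A (algebraMap R C r), hCA _⟩))))
  refine ⟨O, hO, fun r => ?_, fun b hb hbO => ?_⟩
  · have := hAO (algebraMap C A (algebraMap R C r))
    rwa [hCA] at this
  have h1 := hdom _ (hmax b hb)
  rw [hCA] at h1
  have h2 := (O.valuation_le_one_iff b).mpr hbO
  have h3 : O.valuation b⁻¹ * O.valuation b = 1 := by
    rw [← map_mul, inv_mul_cancel₀ (hne0 b hb), map_one]
  exact (mul_lt_one_of_lt_of_le h1 h2).ne h3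

/-- The valuation ring composed of a valuation ring and one of its residue field. -/
noncomputable def composite (V : ValuationSubring L) (W : ValuationSubring (ResidueField V)) : ValuationSubring L where
  toSubring := (W.toSubring.comap (residue V)).map V.subtype
  mem_or_inv_mem' a := by
    rcases eq_or_ne a 0 with rfl | ha
    · exact Or.inl ⟨0, by simp, map_zero _⟩
    rcases V.mem_or_inv_mem a with h | h
    · rcases W.mem_or_inv_mem (residue V ⟨a, h⟩) with h' | h'
      · exact Or.inl ⟨⟨a, h⟩, h', rfl⟩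
      · by_cases hu : IsUnit (⟨a, h⟩ : V)
        · obtain ⟨w, hw⟩ := hu
          right
          refine ⟨(w⁻¹ : Vˣ), ?_, ?_⟩
          · change residue V (w⁻¹ : Vˣ) ∈ W
            rw [map_units_inv, hw]
            exact h'
          · rw [show a = ((w : V) : L) from (congrArg Subtype.val hw).symm, map_units_inv]
            rfl
        · left
          refine ⟨⟨a, h⟩, ?_, rfl⟩
          change residue V ⟨a, h⟩ ∈ W
          rw [(residue_eq_zero_iff _).mpr hu]
          exact zero_mem _
    · by_cases hu : IsUnit (⟨a⁻¹, h⟩ : V)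
      · obtain ⟨w, hw⟩ := hu
        rcases W.mem_or_inv_mem (residue V w) with h' | h'
        · exact Or.inr ⟨w, h', congrArg Subtype.val hw⟩
        · left
          refine ⟨(w⁻¹ : Vˣ), ?_, ?_⟩
          · change residue V (w⁻¹ : Vˣ) ∈ W
            rw [map_units_inv]
            exact h'
          · rw [map_units_inv, show V.subtype (w : V) = a⁻¹ from congrArg Subtype.val hw, inv_inv]
      · right
        refine ⟨⟨a⁻¹, h⟩, ?_, rfl⟩
        change residue V ⟨a⁻¹, h⟩ ∈ W
        rw [(residue_eq_zero_iff _).mpr hu]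
        exact zero_mem _

lemma composite_le (V : ValuationSubring L) (W : ValuationSubring (ResidueField V)) : composite V W ≤ V := by
  rintro _ ⟨v, -, rfl⟩
  exact v.2

lemma residue_mem_of_mem_composite {V : ValuationSubring L} {W : ValuationSubring (ResidueField V)} {a : V}
    (h : (a : L) ∈ composite V W) : residue V a ∈ W := by
  obtain ⟨v, hv, hva⟩ := h
  rwa [show a = v from Subtype.ext hva.symm]

end Algebra

section Generic

variable {X S : Scheme.{u}} (f : X ⟶ S)

/-- The existence of lifts for the discrete valuation rings of the residue fields of generic points. -/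
def HasGenericDvrLift : Prop :=
  ∀ (η : X), closure {η} ∈ irreducibleComponents (X : Type u) →
    ∀ (A : ValuationSubring (X.residueField η)), IsDiscreteValuationRing A →
      ∀ y : Spec (CommRingCat.of A) ⟶ S,
        Spec.map (CommRingCat.ofHom A.subtype) ≫ y = X.fromSpecResidueField η ≫ f →
        ∃ l : Spec (CommRingCat.of A) ⟶ X,
          l ≫ f = y ∧ Spec.map (CommRingCat.ofHom A.subtype) ≫ l = X.fromSpecResidueField η

variable [IsLocallyNoetherian S] [LocallyOfFiniteType f] [QuasiCompact f]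

/-- Every valuation ring of the residue field of a generic point has a lift. -/
lemma exists_lift_generic (H : HasGenericDvrLift f) (η : X)
    (hη : closure {η} ∈ irreducibleComponents (X : Type u)) (V : ValuationSubring (X.residueField η))
    (y : Spec (CommRingCat.of V) ⟶ S)
    (hy : Spec.map (CommRingCat.ofHom V.subtype) ≫ y = X.fromSpecResidueField η ≫ f) :
    ∃ l : Spec (CommRingCat.of V) ⟶ X,
      l ≫ f = y ∧ Spec.map (CommRingCat.ofHom V.subtype) ≫ l = X.fromSpecResidueField η := by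
  classical
  obtain ⟨U, hU, hsU, -⟩ := exists_isAffineOpen_mem_and_subset
    (U := (⊤ : S.Opens)) (x := y (closedPoint V)) trivial
  haveI : IsNoetherianRing Γ(S, U) := IsLocallyNoetherian.component_noetherian (X := S) ⟨U, hU⟩
  obtain ⟨r, hr⟩ := exists_spec_map_eq (O := CommRingCat.of V) hU y hsU
  let ι : Γ(S, U) ⟶ X.residueField η := r ≫ CommRingCat.ofHom V.subtype
  have hι : Spec.map ι ≫ hU.fromSpec = X.fromSpecResidueField η ≫ f := by
    rw [← hy, ← hr, Spec.map_comp, Category.assoc]
    rfl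
  have hηU : η ∈ f ⁻¹ᵁ U := by
    have h1 := congrArg (fun g : Spec (X.residueField η) ⟶ S => g (closedPoint (X.residueField η))) hι
    simp only [Scheme.Hom.comp_apply, Scheme.fromSpecResidueField_apply] at h1
    change f η ∈ U
    exact h1 ▸ hU.range_fromSpec.le (Set.mem_range_self _)
  have hcov : ∀ x : (f ⁻¹ᵁ U : X.Opens), ∃ W : X.Opens, IsAffineOpen W ∧ x.1 ∈ W ∧ W ≤ f ⁻¹ᵁ U := by
    intro x
    obtain ⟨W, hW, hxW, hWU⟩ := exists_isAffineOpen_mem_and_subset x.2
    exact ⟨W, hW, hxW, hWU⟩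
  choose W hW hxW hWU using hcov
  obtain ⟨t, ht⟩ := (f.isCompact_preimage hU.isCompact).elim_finite_subcover (fun x => (W x : Set X))
    (fun x => (W x).isOpen) (fun x hx => Set.mem_iUnion.mpr ⟨⟨x, hx⟩, hxW ⟨x, hx⟩⟩)
  have hcomp : ∀ (i) (hi : η ∈ W i), f.appLE U (W i) (hWU i) ≫ X.evaluation (W i) η hi = ι := by
    intro i hi
    apply spec_map_inj hU
    rw [hι, Spec.map_comp, Category.assoc, IsAffineOpen.SpecMap_appLE_fromSpec f hU (hW i) (hWU i),
      fromSpecResidueField_eq (hW i) η hi, Category.assoc]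
  by_cases hgood : ∃ i, ∃ hi : η ∈ W i, ∀ b, X.evaluation (W i) η hi b ∈ V
  · obtain ⟨i, hi, hb⟩ := hgood
    let β : Γ(X, W i) ⟶ CommRingCat.of V :=
      CommRingCat.ofHom ((X.evaluation (W i) η hi).hom.codRestrict V.toSubring hb)
    have hβ : β ≫ CommRingCat.ofHom V.subtype = X.evaluation (W i) η hi := rfl
    refine ⟨Spec.map β ≫ (hW i).fromSpec, ?_, ?_⟩
    · rw [← hr, Category.assoc, ← IsAffineOpen.SpecMap_appLE_fromSpec f hU (hW i) (hWU i),
        ← Spec.map_comp_assoc]
      congr 2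
      refine CommRingCat.hom_ext (RingHom.ext fun a => Subtype.ext ?_)
      exact congrArg (fun g : Γ(S, U) ⟶ X.residueField η => g a) (hcomp i hi)
    · rw [← Spec.map_comp_assoc, hβ, ← fromSpecResidueField_eq (hW i) η hi]
  · exfalso
    push Not at hgood
    obtain ⟨i₀, hi₀t, hi₀⟩ := Set.mem_iUnion₂.mp (ht hηU)
    let t' := t.filter (fun i => η ∈ W i)
    have hbad : ∀ i : t', ∃ b, X.evaluation (W i.1) η (Finset.mem_filter.mp i.2).2 b ∉ V :=
      fun i => hgood i.1 (Finset.mem_filter.mp i.2).2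
    choose b hb using hbad
    let s : Finset (X.residueField η) :=
      Finset.univ.image fun i : t' => X.evaluation (W i.1) η (Finset.mem_filter.mp i.2).2 (b i)
    letI := (f.appLE U (W i₀) (hWU i₀)).hom.toAlgebra
    haveI : Algebra.FiniteType Γ(S, U) Γ(X, W i₀) := f.finiteType_appLE hU (hW i₀) (hWU i₀)
    obtain ⟨G, hG⟩ : (⊤ : Subalgebra Γ(S, U) Γ(X, W i₀)).FG := Algebra.FiniteType.out
    let ev := X.evaluation (W i₀) η hi₀
    have hgen : Subfield.closure (Set.range ι.hom ∪
        ((G.image ev : Finset (X.residueField η)) : Set (X.residueField η))) = ⊤ := by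
      set F := Subfield.closure (Set.range ι.hom ∪
        ((G.image ev : Finset (X.residueField η)) : Set (X.residueField η)))
      have hB : ∀ c, ev c ∈ F := fun c => by
        have hc : c ∈ Algebra.adjoin Γ(S, U) (G : Set Γ(X, W i₀)) := by rw [hG]; trivial
        induction hc using Algebra.adjoin_induction with
        | mem c hc =>
          exact Subfield.subset_closure (Or.inr (Finset.mem_coe.mpr (Finset.mem_image_of_mem _ hc)))
        | algebraMap a =>
          refine Subfield.subset_closure (Or.inl ⟨a, ?_⟩)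
          exact (congrArg (fun g : Γ(S, U) ⟶ X.residueField η => g a) (hcomp i₀ hi₀)).symm
        | add a c _ _ ha hc => rw [map_add]; exact F.add_mem ha hc
        | mul a c _ _ ha hc => rw [map_mul]; exact F.mul_mem ha hc
      refine top_le_iff.mp fun z _ => ?_
      obtain ⟨z, rfl⟩ := Ideal.Quotient.mk_surjective z
      letI := TopCat.Presheaf.algebra_section_stalk X.presheaf (⟨η, hi₀⟩ : W i₀)
      haveI := (hW i₀).isLocalization_stalk ⟨η, hi₀⟩
      obtain ⟨⟨c, d⟩, hcd⟩ :=
        IsLocalization.surj ((hW i₀).primeIdealOf ⟨η, hi₀⟩).asIdeal.primeCompl z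
      have hd : ev d.1 ≠ 0 :=
        ((IsLocalization.map_units (X.presheaf.stalk η) d).map (X.residue η).hom).ne_zero
      have h : (X.residue η).hom z * ev d.1 = ev c := by
        have := congrArg (X.residue η).hom hcd
        rwa [map_mul] at this
      change (X.residue η).hom z ∈ F
      rw [eq_div_of_mul_eq hd h]
      exact F.div_mem (hB _) (hB _)
    obtain ⟨O, hO, hιO, hsO⟩ := exists_dvr_avoiding ι.hom V (fun a => (r a).2) _ hgen s
      ⟨_, Finset.mem_image_of_mem _ (Finset.mem_univ ⟨i₀, Finset.mem_filter.mpr ⟨hi₀t, hi₀⟩⟩)⟩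
      (fun c hc => by
        obtain ⟨i, -, rfl⟩ := Finset.mem_image.mp hc
        exact hb i)
    let rO : Γ(S, U) ⟶ CommRingCat.of O := CommRingCat.ofHom (ι.hom.codRestrict O.toSubring hιO)
    obtain ⟨l, hlf, hlK⟩ := H η hη O hO (Spec.map rO ≫ hU.fromSpec) (by
      rw [← Spec.map_comp_assoc, show rO ≫ CommRingCat.ofHom O.subtype = ι from rfl, hι])
    have hlU : l (closedPoint O) ∈ f ⁻¹ᵁ U := by
      change f (l (closedPoint O)) ∈ U
      rw [← Scheme.Hom.comp_apply, hlf, Scheme.Hom.comp_apply]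
      exact hU.range_fromSpec.le (Set.mem_range_self _)
    obtain ⟨i, hit, hi⟩ := Set.mem_iUnion₂.mp (ht hlU)
    obtain ⟨β, hβ⟩ := exists_spec_map_eq (O := CommRingCat.of O) (hW i) l hi
    have hηi : η ∈ W i := by
      have h1 := congrArg (fun g : Spec (X.residueField η) ⟶ X => g (closedPoint (X.residueField η))) hlK
      simp only [Scheme.Hom.comp_apply, Scheme.fromSpecResidueField_apply] at h1
      rw [← h1, ← hβ, Scheme.Hom.comp_apply]
      exact (hW i).range_fromSpec.le (Set.mem_range_self _)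
    have hβ' : β ≫ CommRingCat.ofHom O.subtype = X.evaluation (W i) η hηi := by
      apply spec_map_inj (hW i)
      rw [Spec.map_comp, Category.assoc, hβ, hlK, ← fromSpecResidueField_eq (hW i) η hηi]
    refine hsO _ (Finset.mem_image_of_mem _ (Finset.mem_univ ⟨i, Finset.mem_filter.mpr ⟨hit, hηi⟩⟩)) ?_
    exact hβ' ▸ (β (b ⟨i, _⟩)).2

/-- Lifts at the generic points and separatedness give universal closedness. -/
theorem universallyClosed_of_generic [IsSeparated f] (H : HasGenericDvrLift f) :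
    UniversallyClosed f := by
  refine UniversallyClosed.of_valuativeCriterion f ?_
  rintro ⟨A, K, x, y, ⟨w⟩⟩
  let x₀ : X := x (closedPoint K)
  let φK : X.residueField x₀ ⟶ CommRingCat.of K :=
    X.descResidueField (Scheme.stalkClosedPointTo x)
  have hφK : Spec.map φK ≫ X.fromSpecResidueField x₀ = x :=
    Scheme.descResidueField_stalkClosedPointTo_fromSpecResidueField K X x
  obtain ⟨U, hU, hsU, -⟩ := exists_isAffineOpen_mem_and_subset
    (U := (⊤ : S.Opens)) (x := y (closedPoint A)) trivial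
  obtain ⟨r, hr⟩ := exists_spec_map_eq (O := CommRingCat.of A) hU y hsU
  let pA := CommRingCat.ofHom (algebraMap A K)
  have hx₀U : x₀ ∈ f ⁻¹ᵁ U := by
    change f (x (closedPoint K)) ∈ U
    rw [← Scheme.Hom.comp_apply, w, ← hr, Scheme.Hom.comp_apply, Scheme.Hom.comp_apply]
    exact hU.range_fromSpec.le (Set.mem_range_self _)
  obtain ⟨W₀, hW₀, hx₀W, hW₀U⟩ := exists_isAffineOpen_mem_and_subset hx₀U
  have hcomp₀ : f.appLE U W₀ hW₀U ≫ X.evaluation W₀ x₀ hx₀W ≫ φK = r ≫ pA := by
    apply spec_map_inj hU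
    simp only [Spec.map_comp, Category.assoc]
    rw [IsAffineOpen.SpecMap_appLE_fromSpec f hU hW₀ hW₀U,
      ← reassoc_of% (fromSpecResidueField_eq hW₀ x₀ hx₀W), reassoc_of% hφK, hr]
    exact w
  -- the generic point
  obtain ⟨η, hη, hηx⟩ : ∃ η : X, closure {η} ∈ irreducibleComponents (X : Type u) ∧ η ⤳ x₀ := by
    have hZ := irreducibleComponent_mem_irreducibleComponents x₀
    obtain ⟨η, hη⟩ := QuasiSober.sober hZ.1 (isClosed_of_mem_irreducibleComponents _ hZ)
    exact ⟨η, (show closure {η} = irreducibleComponent x₀ from hη) ▸ hZ,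
      hη.specializes mem_irreducibleComponent⟩
  obtain ⟨V₀, hV₀, hloc⟩ := IsLocalRing.exists_factor_valuationRing
    (X.presheaf.stalkSpecializes hηx ≫ X.residue η).hom
  let ψ₀ : X.presheaf.stalk x₀ ⟶ CommRingCat.of V₀ :=
    CommRingCat.ofHom ((X.presheaf.stalkSpecializes hηx ≫ X.residue η).hom.codRestrict V₀.toSubring hV₀)
  haveI : IsLocalHom ψ₀.hom := hloc
  let φ₀ : X.residueField x₀ →+* ResidueField V₀ := IsLocalRing.ResidueField.map ψ₀.hom
  -- the trace of `A` on the residue field of `x₀`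
  let A₀ : ValuationSubring (X.residueField x₀) :=
    ValuationSubring.comap ⟨(algebraMap A K).range, ValuationRing.isInteger_or_isInteger A⟩ φK.hom
  obtain ⟨A', hA', hloc'⟩ := IsLocalRing.exists_factor_valuationRing (φ₀.comp A₀.subtype)
  have hA₀ : ∀ a, φ₀ a ∈ A' → a ∈ A₀ := by
    intro a ha
    by_contra h
    have h1 := (A₀.mem_or_inv_mem a).resolve_left h
    have ha0 : a ≠ 0 := fun h0 => h (h0 ▸ zero_mem _)
    have h2 : IsUnit ((φ₀.comp A₀.subtype).codRestrict A'.toSubring hA' ⟨a⁻¹, h1⟩) := by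
      refine IsUnit.of_mul_eq_one ⟨φ₀ a, ha⟩ (Subtype.ext ?_)
      change φ₀ a⁻¹ * φ₀ a = 1
      rw [← map_mul, inv_mul_cancel₀ ha0, map_one]
    obtain ⟨w', hw'⟩ := hloc'.1 _ h2
    apply h
    have h3 : ((w' : A₀) : X.residueField x₀) * (w'⁻¹ : A₀ˣ) = 1 := congrArg Subtype.val w'.mul_inv
    rw [hw'] at h3
    rw [← mul_one a, ← h3, ← mul_assoc, mul_inv_cancel₀ ha0, one_mul]
    exact Subtype.mem _
  let V := composite V₀ A'
  have hηW : η ∈ W₀ := hηx.mem_open W₀.isOpen hx₀W
  let ι : Γ(S, U) ⟶ X.residueField η := f.appLE U W₀ hW₀U ≫ X.evaluation W₀ η hηW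
  have hιψ : ∀ c, X.evaluation W₀ η hηW c = (ψ₀ (X.presheaf.germ W₀ x₀ hx₀W c) : X.residueField η) := by
    intro c
    change X.residue η (X.presheaf.germ W₀ η hηW c) =
      X.residue η (X.presheaf.stalkSpecializes hηx (X.presheaf.germ W₀ x₀ hx₀W c))
    rw [X.presheaf.germ_stalkSpecializes_apply hx₀W hηx]
  have hιV : ∀ a, ι a ∈ V := by
    intro a
    refine ⟨ψ₀ (X.presheaf.germ W₀ x₀ hx₀W (f.appLE U W₀ hW₀U a)), ?_, (hιψ _).symm⟩
    change φ₀ (X.evaluation W₀ x₀ hx₀W (f.appLE U W₀ hW₀U a)) ∈ A'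
    exact hA' ⟨X.evaluation W₀ x₀ hx₀W (f.appLE U W₀ hW₀U a), r a, (congrArg (fun g : Γ(S, U) ⟶ CommRingCat.of K => g a) hcomp₀).symm⟩
  let rV : Γ(S, U) ⟶ CommRingCat.of V := CommRingCat.ofHom (ι.hom.codRestrict V.toSubring hιV)
  obtain ⟨l, hlf, hlK⟩ := exists_lift_generic f H η hη V (Spec.map rV ≫ hU.fromSpec) (by
    rw [← Spec.map_comp_assoc, show rV ≫ CommRingCat.ofHom V.subtype = ι from rfl, Spec.map_comp,
      Category.assoc, IsAffineOpen.SpecMap_appLE_fromSpec f hU hW₀ hW₀U,
      ← reassoc_of% (fromSpecResidueField_eq hW₀ η hηW)])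
  have hlU : l (closedPoint V) ∈ f ⁻¹ᵁ U := by
    change f (l (closedPoint V)) ∈ U
    rw [← Scheme.Hom.comp_apply, hlf, Scheme.Hom.comp_apply]
    exact hU.range_fromSpec.le (Set.mem_range_self _)
  obtain ⟨W, hW, hzW, hWU⟩ := exists_isAffineOpen_mem_and_subset hlU
  obtain ⟨β, hβ⟩ := exists_spec_map_eq (O := CommRingCat.of V) hW l hzW
  let incl : CommRingCat.of V ⟶ CommRingCat.of V₀ :=
    CommRingCat.ofHom (ValuationSubring.inclusion _ _ (composite_le V₀ A'))
  let m₀ : Spec (CommRingCat.of V₀) ⟶ X := Spec.map ψ₀ ≫ X.fromSpecStalk x₀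
  have hm₀ : m₀ (closedPoint V₀) = x₀ := by
    have : Spec.map ψ₀ (closedPoint V₀) = closedPoint (X.presheaf.stalk x₀) :=
      IsLocalRing.comap_closedPoint ψ₀.hom
    rw [Scheme.Hom.comp_apply, this, Scheme.fromSpecStalk_closedPoint]
  have hgen₀ : Spec.map (CommRingCat.ofHom V₀.subtype) ≫ Spec.map incl ≫ l =
      Spec.map (CommRingCat.ofHom V₀.subtype) ≫ m₀ := by
    rw [← Spec.map_comp_assoc, show incl ≫ CommRingCat.ofHom V₀.subtype = CommRingCat.ofHom V.subtype
      from rfl, hlK, ← Spec.map_comp_assoc,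
      show ψ₀ ≫ CommRingCat.ofHom V₀.subtype = X.presheaf.stalkSpecializes hηx ≫ X.residue η from rfl,
      Spec.map_comp, Category.assoc, Scheme.SpecMap_stalkSpecializes_fromSpecStalk]
    rfl
  haveI : IsDominant (Spec.map (CommRingCat.ofHom V₀.subtype)) := by
    refine ⟨(PrimeSpectrum.denseRange_comap_iff_ker_le_nilRadical _).mpr ?_⟩
    rw [show RingHom.ker (CommRingCat.ofHom V₀.subtype).hom = ⊥ from
      (RingHom.injective_iff_ker_eq_bot _).mp Subtype.val_injective]
    exact bot_le
  have h₀ : Spec.map incl ≫ l = m₀ := by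
    refine ext_of_isDominant_of_isSeparated f ?_ (Spec.map (CommRingCat.ofHom V₀.subtype)) hgen₀
    refine ext_of_mem (O := CommRingCat.of V₀) hU _ _ ?_ ?_
      (CommRingCat.ofHom V₀.subtype) Subtype.val_injective (by
        have h1 := congrArg (· ≫ f) hgen₀
        simpa only [Category.assoc] using h1)
    · rw [Category.assoc, Scheme.Hom.comp_apply, hlf, Scheme.Hom.comp_apply]
      exact hU.range_fromSpec.le (Set.mem_range_self _)
    · rw [Scheme.Hom.comp_apply, hm₀]
      exact hx₀U
  have hx₀W' : x₀ ∈ W := by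
    rw [← hm₀, ← h₀, ← hβ, Scheme.Hom.comp_apply, Scheme.Hom.comp_apply]
    exact hW.range_fromSpec.le (Set.mem_range_self _)
  have hβ₀ : β ≫ incl = X.presheaf.germ W x₀ hx₀W' ≫ ψ₀ := by
    apply spec_map_inj hW
    rw [Spec.map_comp, Category.assoc, hβ, h₀, Spec.map_comp, Category.assoc,
      ← fromSpecStalk_eq' hW x₀ hx₀W']
  have hmem : ∀ c, φK (X.evaluation W x₀ hx₀W' c) ∈ (algebraMap A K).range := by
    intro c
    refine hA₀ _ ?_
    have h1 : residue V₀ (incl (β c)) ∈ A' := residue_mem_of_mem_composite (β c).2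
    rwa [show incl (β c) = ψ₀ (X.presheaf.germ W x₀ hx₀W' c) from
      congrArg (fun g : Γ(X, W) ⟶ CommRingCat.of V₀ => g c) hβ₀] at h1
  let e : A ≃+* (algebraMap A K).range :=
    RingEquiv.ofBijective (algebraMap A K).rangeRestrict
      ⟨fun a b h => IsFractionRing.injective A K (congrArg Subtype.val h),
        RingHom.rangeRestrict_surjective _⟩
  let γ : Γ(X, W) ⟶ CommRingCat.of A :=
    CommRingCat.ofHom (e.symm.toRingHom.comp
      ((X.evaluation W x₀ hx₀W' ≫ φK).hom.codRestrict _ hmem))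
  have hγ : γ ≫ pA = X.evaluation W x₀ hx₀W' ≫ φK := by
    ext c
    exact congrArg Subtype.val (e.apply_symm_apply ⟨_, hmem c⟩)
  have hfac : Spec.map pA ≫ Spec.map γ ≫ hW.fromSpec = x := by
    rw [← Spec.map_comp_assoc, hγ, Spec.map_comp, Category.assoc,
      ← fromSpecResidueField_eq hW x₀ hx₀W', hφK]
  refine ⟨⟨⟨Spec.map γ ≫ hW.fromSpec, hfac, ?_⟩⟩⟩
  refine ext_of_mem (O := CommRingCat.of A) hU _ _ ?_ hsU pA (IsFractionRing.injective A K) ?_
  · rw [Category.assoc, Scheme.Hom.comp_apply, Scheme.Hom.comp_apply]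
    exact hWU (hW.range_fromSpec.le (Set.mem_range_self _))
  · have h1 := congrArg (· ≫ f) hfac
    simp only [Category.assoc] at h1
    simpa only [Category.assoc] using h1.trans w

omit [QuasiCompact f] in
/-- Uniqueness of lifts at generic points gives separatedness. -/
theorem isSeparated_of_generic
    (H : ∀ (η : X), closure {η} ∈ irreducibleComponents (X : Type u) →
      ∀ (A : ValuationSubring (X.residueField η)), IsDiscreteValuationRing A →
        ∀ (l l' : Spec (CommRingCat.of A) ⟶ X), l ≫ f = l' ≫ f →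
          Spec.map (CommRingCat.ofHom A.subtype) ≫ l = X.fromSpecResidueField η →
          Spec.map (CommRingCat.ofHom A.subtype) ≫ l' = X.fromSpecResidueField η → l = l') :
    IsSeparated f := by
  haveI := LocallyOfFiniteType.isLocallyNoetherian f
  haveI : IsLocallyNoetherian (pullback f f) :=
    LocallyOfFiniteType.isLocallyNoetherian (pullback.snd f f)
  refine ⟨.of_isPreimmersion _ (isClosed_of_closure_subset fun z hz => ?_)⟩
  haveI : QuasiCompact (pullback.diagonal f) := inferInstance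
  obtain ⟨W, hW, hzW, -⟩ := exists_isAffineOpen_mem_and_subset
    (U := (⊤ : (pullback f f).Opens)) (x := z) trivial
  have hcpt : IsCompact ((pullback.diagonal f) ⁻¹ᵁ W : Set X) :=
    (pullback.diagonal f).isCompact_preimage hW.isCompact
  have hlf : LocallyFinite (fun T : irreducibleComponents (X : Type u) => (T.1 : Set X)) := by
    intro x
    obtain ⟨U, hU, hxU, -⟩ := exists_isAffineOpen_mem_and_subset (U := (⊤ : X.Opens)) (x := x) trivial
    haveI : IsNoetherianRing Γ(X, U) := IsLocallyNoetherian.component_noetherian ⟨U, hU⟩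
    haveI : TopologicalSpace.NoetherianSpace (U : Set X) := noetherianSpace_of_isAffineOpen U hU
    refine ⟨U, U.isOpen.mem_nhds hxU, ?_⟩
    refine Set.Finite.of_finite_image
      (f := fun T : irreducibleComponents (X : Type u) => (Subtype.val ⁻¹' T.1 : Set (U : Set X)))
      (TopologicalSpace.NoetherianSpace.finite_irreducibleComponents.subset ?_) ?_
    · rintro _ ⟨T, ⟨a, haT, haU⟩, rfl⟩
      exact preimage_mem_irreducibleComponents T.2 U.isOpen.isOpenEmbedding_subtypeVal
        ⟨a, haT, ⟨a, haU⟩, rfl⟩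
    · intro T hT T' hT' h
      have key : ∀ T : irreducibleComponents (X : Type u), (T.1 ∩ (U : Set X)).Nonempty →
          closure ((Subtype.val : ↥(U : Set X) → X) '' (Subtype.val ⁻¹' T.1)) = T.1 := fun T hT => by
        obtain ⟨a, haT, haU⟩ := hT
        exact closure_image_preimage_of_isPreirreducible _
          U.isOpen.isOpenEmbedding_subtypeVal.isOpenMap _ ⟨⟨a, haU⟩, haT⟩ T.2.1.2
          (isClosed_of_mem_irreducibleComponents _ T.2)
      exact Subtype.ext (by rw [← key T hT, ← key T' hT']; exact congrArg _ (congrArg _ h))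
  have hfin := hlf.finite_nonempty_inter_compact hcpt
  set Δ := pullback.diagonal f
  have hzc : z ∈ ⋃ T ∈ {T : irreducibleComponents (X : Type u) | (T.1 ∩ (Δ ⁻¹ᵁ W : Set X)).Nonempty},
      closure (Δ '' T.1) := by
    have h1 : z ∈ closure (⋃ T ∈ {T : irreducibleComponents (X : Type u) |
        (T.1 ∩ (Δ ⁻¹ᵁ W : Set X)).Nonempty}, Δ '' T.1) := by
      refine closure_mono ?_ (W.isOpen.inter_closure ⟨hzW, hz⟩)
      rintro _ ⟨haW, a, rfl⟩
      exact Set.mem_iUnion₂.mpr ⟨⟨_, irreducibleComponent_mem_irreducibleComponents a⟩,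
        ⟨a, mem_irreducibleComponent, haW⟩, a, mem_irreducibleComponent, rfl⟩
    rwa [hfin.closure_biUnion] at h1
  obtain ⟨T, -, hT⟩ := Set.mem_iUnion₂.mp hzc
  obtain ⟨η, hη⟩ := QuasiSober.sober T.2.1 (isClosed_of_mem_irreducibleComponents _ T.2)
  have hgen : closure {η} = T.1 := hη
  have hsp : Δ η ⤳ z := by
    rw [specializes_iff_mem_closure]
    refine closure_minimal ?_ isClosed_closure hT
    rintro _ ⟨a, ha, rfl⟩
    exact specializes_iff_mem_closure.mp ((hη.specializes ha).map Δ.continuous)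
  by_cases hne : z = Δ η
  · exact ⟨η, hne.symm⟩
  obtain ⟨A, m, hA, hm, hm'⟩ := S4450.result Δ η z hsp hne
  have h1 : Spec.map (CommRingCat.ofHom A.subtype) ≫ m ≫ pullback.fst f f = X.fromSpecResidueField η := by
    rw [reassoc_of% hm', pullback.diagonal_fst, Category.comp_id]
  have h2 : Spec.map (CommRingCat.ofHom A.subtype) ≫ m ≫ pullback.snd f f = X.fromSpecResidueField η := by
    rw [reassoc_of% hm', pullback.diagonal_snd, Category.comp_id]
  have h12 := H η (hgen ▸ T.2) A hA _ _ (by simp [pullback.condition]) h1 h2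
  have hmΔ : m = (m ≫ pullback.fst f f) ≫ Δ := by
    apply pullback.hom_ext
    · simp [Δ]
    · simp [Δ, h12]
  refine ⟨(m ≫ pullback.fst f f) (closedPoint A), ?_⟩
  rw [← Scheme.Hom.comp_apply, ← hmΔ]
  exact hm

end Generic

end Groth.Agent.UnivClosed
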