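import Mathlib
import Groth.Agent.UnivClosed.Basic
import Groth.Agent.S4450

set_option linter.style.haveILetI false

/-!
# The valuative criterion with discrete valuation rings over a Noetherian base
-/

universe u

namespace Groth.Agent.UnivClosed

open CategoryTheory CategoryTheory.Limits AlgebraicGeometry TopologicalSpace Topology

variable {X Y : Scheme.{u}}

/-- The existence part of the valuative criterion for discrete valuation rings. -/
def HasDvrLift (f : X ⟶ Y) : Prop :=
  ∀ (A : Type u) [CommRing A] [IsDomain A] [IsDiscreteValuationRing A] (K : Type u) [Field K]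
    [Algebra A K] [IsFractionRing A K] (x : Spec (CommRingCat.of K) ⟶ X)
    (y : Spec (CommRingCat.of A) ⟶ Y),
    x ≫ f = Spec.map (CommRingCat.ofHom (algebraMap A K)) ≫ y →
    ∃ l : Spec (CommRingCat.of A) ⟶ X, l ≫ f = y ∧ Spec.map (CommRingCat.ofHom (algebraMap A K)) ≫ l = x

lemma hasDvrLift_of_fractionRing (f : X ⟶ Y)
    (H : ∀ (A : Type u) [CommRing A] [IsDomain A] [IsDiscreteValuationRing A]
      (x : Spec (CommRingCat.of (FractionRing A)) ⟶ X) (y : Spec (CommRingCat.of A) ⟶ Y),
      x ≫ f = Spec.map (CommRingCat.ofHom (algebraMap A (FractionRing A))) ≫ y →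
      ∃ l : Spec (CommRingCat.of A) ⟶ X, l ≫ f = y ∧
        Spec.map (CommRingCat.ofHom (algebraMap A (FractionRing A))) ≫ l = x) :
    HasDvrLift f := by
  intro A _ _ _ K _ _ _ x y h
  let e := FractionRing.algEquiv A K
  have he : CommRingCat.ofHom (algebraMap A (FractionRing A)) ≫ CommRingCat.ofHom e.toRingHom =
      CommRingCat.ofHom (algebraMap A K) := by
    ext a; exact e.commutes a
  have he' : CommRingCat.ofHom (algebraMap A K) ≫ CommRingCat.ofHom e.symm.toRingHom =
      CommRingCat.ofHom (algebraMap A (FractionRing A)) := by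
    ext a; exact e.symm.commutes a
  obtain ⟨l, hl, hl'⟩ := H A (Spec.map (CommRingCat.ofHom e.symm.toRingHom) ≫ x) y (by
    rw [Category.assoc, h, ← Spec.map_comp_assoc, he'])
  refine ⟨l, hl, ?_⟩
  rw [← he, Spec.map_comp, Category.assoc, hl', ← Spec.map_comp_assoc,
    show CommRingCat.ofHom e.symm.toRingHom ≫ CommRingCat.ofHom e.toRingHom = 𝟙 _ by
      ext a; exact e.apply_symm_apply a, Spec.map_id, Category.id_comp]

lemma hasDvrLift_pullback_snd (f : X ⟶ Y) {T : Scheme.{u}} (g : T ⟶ Y) (H : HasDvrLift f) :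
    HasDvrLift (pullback.snd f g) := by
  intro A _ _ _ K _ _ _ x y h
  obtain ⟨l, hl, hl'⟩ := H A K (x ≫ pullback.fst f g) (y ≫ g) (by
    rw [Category.assoc, pullback.condition, reassoc_of% h])
  refine ⟨pullback.lift l y hl, pullback.lift_snd _ _ _, pullback.hom_ext ?_ ?_⟩
  · rw [Category.assoc, pullback.lift_fst, hl']
  · rw [Category.assoc, pullback.lift_snd, h]

lemma hasDvrLift_diagonal (f : X ⟶ Y)
    (H : ∀ (A : Type u) [CommRing A] [IsDomain A] [IsDiscreteValuationRing A] (K : Type u) [Field K]
      [Algebra A K] [IsFractionRing A K] (l l' : Spec (CommRingCat.of A) ⟶ X), l ≫ f = l' ≫ f →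
      Spec.map (CommRingCat.ofHom (algebraMap A K)) ≫ l =
        Spec.map (CommRingCat.ofHom (algebraMap A K)) ≫ l' → l = l') :
    HasDvrLift (pullback.diagonal f) := by
  intro A _ _ _ K _ _ _ x y h
  have h1 : Spec.map (CommRingCat.ofHom (algebraMap A K)) ≫ y ≫ pullback.fst f f = x := by
    rw [← reassoc_of% h, pullback.diagonal_fst, Category.comp_id]
  have h2 : Spec.map (CommRingCat.ofHom (algebraMap A K)) ≫ y ≫ pullback.snd f f = x := by
    rw [← reassoc_of% h, pullback.diagonal_snd, Category.comp_id]
  have h12 : y ≫ pullback.fst f f = y ≫ pullback.snd f f :=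
    H A K _ _ (by simp [pullback.condition]) (h1.trans h2.symm)
  refine ⟨y ≫ pullback.fst f f, pullback.hom_ext ?_ ?_, h1⟩
  · simp
  · simp [h12]

lemma isLocallyConstructible_of_isClosed [IsLocallyNoetherian X] {T : Set X} (hT : IsClosed T) :
    IsLocallyConstructible T := by
  intro x
  obtain ⟨U, hU, hxU, -⟩ := exists_isAffineOpen_mem_and_subset (U := (⊤ : X.Opens)) (x := x) trivial
  haveI : IsNoetherianRing Γ(X, U) := IsLocallyNoetherian.component_noetherian ⟨U, hU⟩
  haveI : NoetherianSpace (U : Set X) := noetherianSpace_of_isAffineOpen U hU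
  refine ⟨U, U.isOpen.mem_nhds hxU, U.isOpen, ?_⟩
  rw [← compl_compl (Subtype.val ⁻¹' T : Set (U : Set X))]
  exact (IsRetrocompact.isConstructible (hT.preimage continuous_subtype_val).isOpen_compl
    (fun _ _ _ => NoetherianSpace.isCompact _)).compl

lemma locallyOfFinitePresentation_of_isLocallyNoetherian (f : X ⟶ Y) [IsLocallyNoetherian Y]
    [LocallyOfFiniteType f] : LocallyOfFinitePresentation f := by
  rw [HasRingHomProperty.iff_appLE (P := @LocallyOfFinitePresentation)]
  intro U V e
  haveI := IsLocallyNoetherian.component_noetherian (X := Y) U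
  exact RingHom.FinitePresentation.of_finiteType.mp (f.finiteType_appLE U.2 V.2 e)

/-- Over a locally Noetherian base, a quasi-compact morphism of finite type with lifts for discrete
valuation rings is closed. -/
theorem isClosedMap_of_hasDvrLift (f : X ⟶ Y) [IsLocallyNoetherian Y] [LocallyOfFiniteType f]
    [QuasiCompact f] (H : HasDvrLift f) : IsClosedMap f := by
  intro T hT
  haveI := locallyOfFinitePresentation_of_isLocallyNoetherian f
  haveI := LocallyOfFiniteType.isLocallyNoetherian f
  have hc : IsLocallyConstructible (f '' T) :=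
    f.isLocallyConstructible_image (isLocallyConstructible_of_isClosed hT)
  have hspec : StableUnderSpecialization (f '' T) := by
    rintro _ y' hy ⟨x, hxT, rfl⟩
    by_cases hne : y' = f x
    · exact ⟨x, hxT, hne.symm⟩
    obtain ⟨A, m, hA, hm, hm'⟩ := S4450.result f x y' hy hne
    haveI := hA
    obtain ⟨l, hl, hl'⟩ := H A (X.residueField x) (X.fromSpecResidueField x) m hm'.symm
    refine ⟨l (IsLocalRing.closedPoint A), ?_, ?_⟩
    · have h1 : x ⤳ l (IsLocalRing.closedPoint A) := by
        have h2 : l (Spec.map (CommRingCat.ofHom (algebraMap A (X.residueField x)))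
            (IsLocalRing.closedPoint (X.residueField x))) = x := by
          rw [← Scheme.Hom.comp_apply, hl']
          exact Scheme.fromSpecResidueField_apply x _
        exact Eq.subst (motive := fun z => z ⤳ _) h2
          ((IsLocalRing.specializes_closedPoint _).map l.continuous)
      exact h1.mem_closed hT hxT
    · rw [← Scheme.Hom.comp_apply, hl]
      exact hm
  rw [← isOpen_compl_iff, isOpen_iff_forall_mem_open]
  intro y hy
  obtain ⟨U, hU, hyU, -⟩ := exists_isAffineOpen_mem_and_subset (U := (⊤ : Y.Opens)) (x := y) trivial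
  have hcl : IsClosed (hU.fromSpec ⁻¹' (f '' T)) :=
    PrimeSpectrum.isClosed_of_stableUnderSpecialization_of_isConstructible
      (fun a b hab ha => hspec (hab.map hU.fromSpec.continuous) ha)
      ((hc.preimage_of_isOpenEmbedding hU.fromSpec.isOpenEmbedding).isConstructible)
  refine ⟨hU.fromSpec '' (hU.fromSpec ⁻¹' (f '' T))ᶜ, ?_,
    hU.fromSpec.isOpenEmbedding.isOpenMap _ hcl.isOpen_compl, ?_⟩
  · rintro _ ⟨a, ha, rfl⟩
    exact ha
  · obtain ⟨a, rfl⟩ : y ∈ Set.range hU.fromSpec := hU.range_fromSpec.ge hyU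
    exact ⟨a, hy, rfl⟩

/-- Universal closedness from lifts for discrete valuation rings. -/
theorem universallyClosed_of_hasDvrLift (f : X ⟶ Y) [IsLocallyNoetherian Y] [LocallyOfFiniteType f]
    [QuasiCompact f] (H : HasDvrLift f) : UniversallyClosed f := by
  refine universallyClosed_of_affineSpace f fun n => ?_
  haveI : IsLocallyNoetherian 𝔸(ULift.{u} (Fin n); Y) :=
    LocallyOfFiniteType.isLocallyNoetherian (𝔸(ULift.{u} (Fin n); Y) ↘ Y)
  exact isClosedMap_of_hasDvrLift _ (hasDvrLift_pullback_snd f _ H)

/-- Separatedness from uniqueness of lifts for discrete valuation rings. -/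
theorem isSeparated_of_dvr (f : X ⟶ Y) [IsLocallyNoetherian Y] [LocallyOfFiniteType f]
    (H : ∀ (A : Type u) [CommRing A] [IsDomain A] [IsDiscreteValuationRing A] (K : Type u) [Field K]
      [Algebra A K] [IsFractionRing A K] (l l' : Spec (CommRingCat.of A) ⟶ X), l ≫ f = l' ≫ f →
      Spec.map (CommRingCat.ofHom (algebraMap A K)) ≫ l =
        Spec.map (CommRingCat.ofHom (algebraMap A K)) ≫ l' → l = l') :
    IsSeparated f := by
  haveI := LocallyOfFiniteType.isLocallyNoetherian f
  haveI : IsLocallyNoetherian (pullback f f) :=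
    LocallyOfFiniteType.isLocallyNoetherian (pullback.snd f f)
  have hc : IsClosedMap (pullback.diagonal f) :=
    isClosedMap_of_hasDvrLift _ (hasDvrLift_diagonal f H)
  exact ⟨.of_isPreimmersion _ hc.isClosed_range⟩

end Groth.Agent.UnivClosed
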