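import Mathlib
import Groth.Agent.UnivClosed.Generic

/-!
# Properness near a point of the base detected by discrete valuation rings dominating that point
-/

set_option linter.style.haveILetI false

universe u

namespace Groth.Agent.UnivClosed

open CategoryTheory CategoryTheory.Limits AlgebraicGeometry IsLocalRing

section Algebra

variable {L : Type u} [Field L] {R : Type u} [CommRing R] [IsNoetherianRing R]

/-- The centres on `R` of the valuation rings avoiding a finite set `s`. -/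
def avoidLocus (ι : R →+* L) (s : Finset L) : Set (PrimeSpectrum R) :=
  letI := ι.toAlgebra
  let C := Algebra.adjoin R ((fun b : L => b⁻¹) '' (s : Set L))
  Set.range (PrimeSpectrum.comap
    ((Ideal.Quotient.mk (Ideal.span {c : C | (c : L) ∈ (fun b : L => b⁻¹) '' (s : Set L)})).comp (algebraMap R C)))

lemma mem_avoidLocus {ι : R →+* L} {s : Finset L} (A : ValuationSubring L) (hι : ∀ r, ι r ∈ A)
    (hs : ∀ b ∈ s, b ∉ A) :
    (⟨(maximalIdeal A).comap (ι.codRestrict A.toSubring hι), inferInstance⟩ : PrimeSpectrum R) ∈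
      avoidLocus ι s := by
  classical
  letI := ι.toAlgebra
  let V' : Subalgebra R L := { A.toSubring with algebraMap_mem' := hι }
  let C := Algebra.adjoin R ((fun b : L => b⁻¹) '' (s : Set L))
  have hC : C ≤ V' := Algebra.adjoin_le (by
    rintro _ ⟨b, hb, rfl⟩
    exact (A.mem_or_inv_mem b).resolve_left (hs b (Finset.mem_coe.mp hb)))
  let j : C →+* A := C.val.toRingHom.codRestrict A.toSubring fun c => hC c.2
  let I : Ideal C := Ideal.span {c : C | (c : L) ∈ (fun b : L => b⁻¹) '' (s : Set L)}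
  have hI : I ≤ (maximalIdeal A).comap j := by
    rw [Ideal.span_le]
    rintro c ⟨b, hb, hbc⟩
    change j c ∈ maximalIdeal A
    rw [IsLocalRing.mem_maximalIdeal, mem_nonunits_iff]
    rintro ⟨w, hw⟩
    apply hs b (Finset.mem_coe.mp hb)
    have h1 : (w : L) * (w⁻¹ : Aˣ) = 1 := congrArg Subtype.val w.mul_inv
    rw [hw] at h1
    have h2 : (c : L) = b⁻¹ := hbc.symm
    change (c : L) * _ = 1 at h1
    rw [h2] at h1
    have hb0 : b ≠ 0 := fun h0 => hs b (Finset.mem_coe.mp hb) (h0 ▸ zero_mem A)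
    rw [show b = ((w⁻¹ : Aˣ) : L) from (inv_mul_eq_one₀ hb0).mp h1]
    exact Subtype.mem _
  let P : PrimeSpectrum C := ⟨(maximalIdeal A).comap j, inferInstance⟩
  obtain ⟨Q, hQ⟩ : P ∈ Set.range (PrimeSpectrum.comap (Ideal.Quotient.mk I)) := by
    rw [range_comap_of_surjective _ _ Ideal.Quotient.mk_surjective, Ideal.mk_ker]
    exact hI
  refine ⟨Q, PrimeSpectrum.ext ?_⟩
  change Ideal.comap ((Ideal.Quotient.mk I).comp (algebraMap R C)) Q.asIdeal = _
  rw [← Ideal.comap_comap, show Ideal.comap (Ideal.Quotient.mk I) Q.asIdeal = P.asIdeal from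
    congrArg PrimeSpectrum.asIdeal hQ, Ideal.comap_comap]
  rfl

/-- If a prime is in the closure of the locus, some discrete valuation ring dominating its local ring
avoids `s`. -/
lemma exists_dvr_of_mem_closure {ι : R →+* L} {s : Finset L} (hs : s.Nonempty) (hs0 : ∀ b ∈ s, b ≠ 0)
    (G : Finset L) (hG : Subfield.closure (Set.range ι ∪ (G : Set L)) = ⊤)
    {p : PrimeSpectrum R} (hp : p ∈ closure (avoidLocus ι s))
    {O : Type u} [CommRing O] [IsLocalRing O] [IsNoetherianRing O] [Algebra R O]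
    [IsLocalization.AtPrime O p.asIdeal] (ιO : O →+* L) (hιO : ιO.comp (algebraMap R O) = ι) :
    ∃ A : ValuationSubring L, IsDiscreteValuationRing A ∧ (∀ r, ιO r ∈ A) ∧
      (∀ r ∈ maximalIdeal O, A.valuation (ιO r) < 1) ∧ ∀ b ∈ s, b ∉ A := by
  classical
  letI := ι.toAlgebra
  let C := Algebra.adjoin R ((fun b : L => b⁻¹) '' (s : Set L))
  let I : Ideal C := Ideal.span {c : C | (c : L) ∈ (fun b : L => b⁻¹) '' (s : Set L)}
  let ψ := (Ideal.Quotient.mk I).comp (algebraMap R C)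
  have hp' : RingHom.ker ψ ≤ p.asIdeal := by
    have h1 := hp
    rw [show avoidLocus ι s = Set.range (PrimeSpectrum.comap ψ) from rfl,
      PrimeSpectrum.closure_range_comap] at h1
    exact h1
  obtain ⟨q, hq, hqp⟩ := Ideal.exists_minimalPrimes_le hp'
  obtain ⟨Q, hQ, -, hQq⟩ := Ideal.exists_comap_eq_of_mem_minimalPrimes ψ (I := (⊥ : Ideal (C ⧸ I))) q hq
  let P : Ideal C := Q.comap (Ideal.Quotient.mk I)
  haveI : P.IsPrime := inferInstance
  have hIP : I ≤ P := fun c hc => by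
    change Ideal.Quotient.mk I c ∈ Q
    rw [Ideal.Quotient.eq_zero_iff_mem.mpr hc]
    exact zero_mem Q
  -- a valuation ring centred at `P`
  let CP := Localization.AtPrime P
  let φ : CP →+* L := IsLocalization.lift (M := P.primeCompl) (g := C.val.toRingHom)
    (fun y => isUnit_iff_ne_zero.mpr fun h0 => y.2 (by
      rw [show (y : C) = 0 from Subtype.ext h0]; exact zero_mem P))
  have hφ : ∀ c : C, φ (algebraMap C CP c) = c := fun c => IsLocalization.lift_eq _ c
  obtain ⟨V₀, hV₀, hloc⟩ := IsLocalRing.exists_factor_valuationRing φ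
  let ψ₀ : CP →+* V₀ := φ.codRestrict V₀.toSubring hV₀
  have hψ₀ : ∀ c : C, residue V₀ (ψ₀ (algebraMap C CP c)) = 0 ↔ c ∈ P := by
    intro c
    rw [residue_eq_zero_iff, IsLocalRing.mem_maximalIdeal, mem_nonunits_iff,
      ← IsLocalization.AtPrime.to_map_mem_maximal_iff CP P c, IsLocalRing.mem_maximalIdeal, mem_nonunits_iff]
    exact not_congr ⟨fun h => hloc.1 _ h, fun h => h.map ψ₀⟩
  -- specialise it to `p`
  let χ : R →+* ResidueField V₀ := (residue V₀).comp (ψ₀.comp ((algebraMap C CP).comp (algebraMap R C)))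
  have hχ : ∀ r ∈ p.asIdeal.primeCompl, IsUnit (χ r) := by
    intro r hr
    rw [isUnit_iff_ne_zero]
    intro h0
    apply hr
    refine hqp ?_
    rw [← hQq]
    exact (hψ₀ (algebraMap R C r)).mp h0
  let χO : O →+* ResidueField V₀ := IsLocalization.lift (M := p.asIdeal.primeCompl) (g := χ) (fun t => hχ t.1 t.2)
  obtain ⟨A', hA', hloc'⟩ := IsLocalRing.exists_factor_valuationRing χO
  let V := composite V₀ A'
  have hιr : ∀ r, ι r = (ψ₀ (algebraMap C CP (algebraMap R C r)) : L) := fun r => (hφ (algebraMap R C r)).symm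
  have hOV₀ : ∀ a : O, ∃ v : V₀, (v : L) = ιO a ∧ residue V₀ v = χO a := by
    intro a
    obtain ⟨⟨r, t⟩, hrt⟩ := IsLocalization.surj p.asIdeal.primeCompl a
    have hu : IsUnit (ψ₀ (algebraMap C CP (algebraMap R C t.1))) := by
      by_contra hu
      have := hχ t.1 t.2
      rw [isUnit_iff_ne_zero] at this
      exact this ((residue_eq_zero_iff _).mpr hu)
    obtain ⟨w, hw⟩ := hu
    refine ⟨ψ₀ (algebraMap C CP (algebraMap R C r)) * (w⁻¹ : V₀ˣ), ?_, ?_⟩
    · have h1 := congrArg ιO hrt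
      rw [map_mul, ← RingHom.comp_apply, hιO, ← RingHom.comp_apply, hιO, hιr, hιr, ← hw] at h1
      rw [MulMemClass.coe_mul, ← h1, mul_assoc, ← MulMemClass.coe_mul, Units.mul_inv]
      simp
    · have h1 := congrArg χO hrt
      rw [map_mul, IsLocalization.lift_eq, IsLocalization.lift_eq] at h1
      change χO a * χ t.1 = χ r at h1
      change _ = χO a
      rw [map_mul, map_units_inv, hw]
      change χ r * (χ t.1)⁻¹ = _
      rw [← h1, mul_assoc, mul_inv_cancel₀ (isUnit_iff_ne_zero.mp (hχ t.1 t.2)), mul_one]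
  have hOV : ∀ a, ιO a ∈ V := fun a => by
    obtain ⟨v, hv, hvr⟩ := hOV₀ a
    exact ⟨v, show residue V₀ v ∈ A' from hvr ▸ hA' a, hv⟩
  have hmV : ∀ a ∈ maximalIdeal O, ιO a ≠ 0 → (ιO a)⁻¹ ∉ V := by
    intro a ha h0 hinv
    obtain ⟨v, hv, hvr⟩ := hOV₀ a
    obtain ⟨w, hw, hwv⟩ := hinv
    have hvw : v * w = 1 := Subtype.ext (by
      change (v : L) * (w : L) = 1
      rw [hv, show (w : L) = (ιO a)⁻¹ from hwv, mul_inv_cancel₀ h0])
    have h1 : IsUnit (χO.codRestrict A'.toSubring hA' a) := by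
      refine IsUnit.of_mul_eq_one ⟨residue V₀ w, hw⟩ (Subtype.ext ?_)
      change χO a * residue V₀ w = 1
      rw [← hvr, ← map_mul, hvw, map_one]
    exact ha (hloc'.1 a h1)
  have hsV : ∀ b ∈ s, b ∉ V := by
    intro b hb hbV
    have hb' : b ∈ V₀ := composite_le V₀ A' hbV
    have hmem : b⁻¹ ∈ C := Algebra.subset_adjoin ⟨b, Finset.mem_coe.mpr hb, rfl⟩
    have h0 : (⟨b⁻¹, hmem⟩ : C) ∈ P := hIP (Ideal.subset_span ⟨b, Finset.mem_coe.mpr hb, rfl⟩)
    have h1 := (hψ₀ _).mpr h0
    rw [residue_eq_zero_iff, IsLocalRing.mem_maximalIdeal, mem_nonunits_iff] at h1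
    refine h1 (IsUnit.of_mul_eq_one ⟨b, hb'⟩ (Subtype.ext ?_))
    change φ (algebraMap C CP ⟨b⁻¹, hmem⟩) * b = 1
    rw [hφ]
    exact inv_mul_cancel₀ (hs0 b hb)
  obtain ⟨gm, hgm⟩ : (maximalIdeal O).FG := IsNoetherian.noetherian _
  let s' := s ∪ ((gm.image ιO).filter (· ≠ 0)).image (·⁻¹)
  have hs'V : ∀ b ∈ s', b ∉ V := by
    intro b hb
    rcases Finset.mem_union.mp hb with hb | hb
    · exact hsV b hb
    · obtain ⟨c, hc, rfl⟩ := Finset.mem_image.mp hb
      obtain ⟨hc, hc0⟩ := Finset.mem_filter.mp hc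
      obtain ⟨a, ha, rfl⟩ := Finset.mem_image.mp hc
      exact hmV a (hgm ▸ Ideal.subset_span ha) hc0
  have hGO : Subfield.closure (Set.range ιO ∪ (G : Set L)) = ⊤ := top_le_iff.mp (hG ▸
    Subfield.closure_mono (Set.union_subset_union_left _ (by
      rintro _ ⟨r, rfl⟩
      exact ⟨algebraMap R O r, RingHom.congr_fun hιO r⟩)))
  obtain ⟨A, hA, hOA, hsA⟩ := exists_dvr_avoiding ιO V hOV G hGO s'
    (hs.mono Finset.subset_union_left) hs'V
  refine ⟨A, hA, hOA, ?_, fun b hb => hsA b (Finset.mem_union_left _ hb)⟩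
  let ψA : O →+* A := ιO.codRestrict A.toSubring hOA
  have hm : maximalIdeal O ≤ (maximalIdeal A).comap ψA := by
    rw [← hgm, Ideal.span_le]
    intro a ha
    change ψA a ∈ maximalIdeal A
    rw [IsLocalRing.mem_maximalIdeal, mem_nonunits_iff]
    rintro ⟨w, hw⟩
    have h1 : (w : L) * (w⁻¹ : Aˣ) = 1 := congrArg Subtype.val w.mul_inv
    rw [hw] at h1
    change ιO a * _ = 1 at h1
    have h0 : ιO a ≠ 0 := fun h0 => by rw [h0, zero_mul] at h1; exact zero_ne_one h1
    refine hsA (ιO a)⁻¹ (Finset.mem_union_right _ (Finset.mem_image.mpr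
      ⟨ιO a, Finset.mem_filter.mpr ⟨Finset.mem_image_of_mem _ ha, h0⟩, rfl⟩)) ?_
    rw [← eq_inv_of_mul_eq_one_right h1]
    exact Subtype.mem _
  exact fun a ha => (A.valuation_lt_one_iff (ψA a)).mp (hm ha)

end Algebra

section Scheme

variable {X Y : Scheme.{u}} [IsIntegral X] [IsLocallyNoetherian Y] (f : X ⟶ Y) [IsSeparated f]
  [LocallyOfFiniteType f] [QuasiCompact f]

/-- Properness near `y` from the existence of centres for the discrete valuation rings dominating `y`. -/
theorem exists_proper_nhd (y : Y) (hξ : f (genericPoint X) ⤳ y)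
    (H : ∀ A : ValuationSubring (X.residueField (genericPoint X)), IsDiscreteValuationRing A →
      (∀ a, (Y.presheaf.stalkSpecializes hξ ≫ f.stalkMap (genericPoint X) ≫ X.residue _) a ∈ A) →
      (∀ a ∈ maximalIdeal (Y.presheaf.stalk y),
        A.valuation ((Y.presheaf.stalkSpecializes hξ ≫ f.stalkMap (genericPoint X) ≫ X.residue _) a) < 1) →
      ∃ x : X, f x = y ∧ ∀ b,
        (X.presheaf.stalkSpecializes (genericPoint_specializes x) ≫ X.residue (genericPoint X)) b ∈ A) :
    ∃ U : Y.Opens, y ∈ U ∧ IsProper (f ∣_ U) := by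
  classical
  let ξ := genericPoint X
  let L := X.residueField ξ
  obtain ⟨U, hU, hyU, -⟩ := exists_isAffineOpen_mem_and_subset (U := (⊤ : Y.Opens)) (x := y) trivial
  haveI : IsNoetherianRing Γ(Y, U) := IsLocallyNoetherian.component_noetherian (X := Y) ⟨U, hU⟩
  have hξU : ξ ∈ f ⁻¹ᵁ U := hξ.mem_open U.isOpen hyU
  let ι : Γ(Y, U) ⟶ L := f.app U ≫ X.evaluation (f ⁻¹ᵁ U) ξ hξU
  have hcov : ∀ x : (f ⁻¹ᵁ U : X.Opens), ∃ W : X.Opens, IsAffineOpen W ∧ x.1 ∈ W ∧ W ≤ f ⁻¹ᵁ U := by
    intro x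
    obtain ⟨W, hW, hxW, hWU⟩ := exists_isAffineOpen_mem_and_subset x.2
    exact ⟨W, hW, hxW, hWU⟩
  choose W hW hxW hWU using hcov
  obtain ⟨t, ht⟩ := (f.isCompact_preimage hU.isCompact).elim_finite_subcover (fun x => (W x : Set X))
    (fun x => (W x).isOpen) (fun x hx => Set.mem_iUnion.mpr ⟨⟨x, hx⟩, hxW ⟨x, hx⟩⟩)
  have hξW : ∀ i, ξ ∈ W i := fun i =>
    ((genericPoint_spec X).mem_open_set_iff (W i).isOpen).mpr ⟨i.1, trivial, hxW i⟩
  have hcomp : ∀ i, f.appLE U (W i) (hWU i) ≫ X.evaluation (W i) ξ (hξW i) = ι := by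
    intro i
    simp only [ι, Scheme.evaluation, Scheme.Hom.appLE, Category.assoc, TopCat.Presheaf.germ_res_assoc]
  have hft : ∀ i, ∃ G : Finset Γ(X, W i), ∀ (A : ValuationSubring L), (∀ r, ι r ∈ A) →
      (∀ g ∈ G, X.evaluation (W i) ξ (hξW i) g ∈ A) → ∀ b, X.evaluation (W i) ξ (hξW i) b ∈ A := by
    intro i
    letI := (f.appLE U (W i) (hWU i)).hom.toAlgebra
    haveI : Algebra.FiniteType Γ(Y, U) Γ(X, W i) := f.finiteType_appLE hU (hW i) (hWU i)
    obtain ⟨G, hG⟩ : (⊤ : Subalgebra Γ(Y, U) Γ(X, W i)).FG := Algebra.FiniteType.out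
    refine ⟨G, fun A hA hGA b => ?_⟩
    have hb : b ∈ Algebra.adjoin Γ(Y, U) (G : Set Γ(X, W i)) := by rw [hG]; trivial
    induction hb using Algebra.adjoin_induction with
    | mem c hc => exact hGA c hc
    | algebraMap a =>
      have := hA a
      rw [← hcomp i] at this
      exact this
    | add a c _ _ ha hc => rw [map_add]; exact add_mem ha hc
    | mul a c _ _ ha hc => rw [map_mul]; exact mul_mem ha hc
  choose G hG using hft
  -- the finitely many ways to avoid all the charts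
  let G' := fun i => ((G i).image (X.evaluation (W i) ξ (hξW i))).filter (· ≠ 0)
  let Φ := (i : t) → G' i.1
  let sOf : Φ → Finset L := fun c => Finset.univ.image fun i => (c i : L)
  let Bad : Set (PrimeSpectrum Γ(Y, U)) := ⋃ c : Φ, closure (avoidLocus ι.hom (sOf c))
  have hBad : IsClosed Bad := isClosed_iUnion_of_finite fun c => isClosed_closure
  have hyBad : hU.primeIdealOf ⟨y, hyU⟩ ∉ Bad := by
    intro hmem
    obtain ⟨c, hc⟩ := Set.mem_iUnion.mp hmem
    obtain ⟨i₀, hi₀t, hi₀⟩ := Set.mem_iUnion₂.mp (ht hξU)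
    letI := TopCat.Presheaf.algebra_section_stalk Y.presheaf (⟨y, hyU⟩ : U)
    haveI := hU.isLocalization_stalk ⟨y, hyU⟩
    letI := (f.appLE U (W i₀) (hWU i₀)).hom.toAlgebra
    haveI : Algebra.FiniteType Γ(Y, U) Γ(X, W i₀) := f.finiteType_appLE hU (hW i₀) (hWU i₀)
    obtain ⟨G₀, hG₀⟩ : (⊤ : Subalgebra Γ(Y, U) Γ(X, W i₀)).FG := Algebra.FiniteType.out
    let ev := X.evaluation (W i₀) ξ (hξW i₀)
    have hgen : Subfield.closure (Set.range ι.hom ∪ ((G₀.image ev : Finset L) : Set L)) = ⊤ := by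
      set F := Subfield.closure (Set.range ι.hom ∪ ((G₀.image ev : Finset L) : Set L))
      have hB : ∀ c, ev c ∈ F := fun c => by
        have hc : c ∈ Algebra.adjoin Γ(Y, U) (G₀ : Set Γ(X, W i₀)) := by rw [hG₀]; trivial
        induction hc using Algebra.adjoin_induction with
        | mem c hc =>
          exact Subfield.subset_closure (Or.inr (Finset.mem_coe.mpr (Finset.mem_image_of_mem _ hc)))
        | algebraMap a =>
          exact Subfield.subset_closure (Or.inl ⟨a,
            (congrArg (fun g : Γ(Y, U) ⟶ L => g a) (hcomp i₀)).symm⟩)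
        | add a c _ _ ha hc => rw [map_add]; exact F.add_mem ha hc
        | mul a c _ _ ha hc => rw [map_mul]; exact F.mul_mem ha hc
      refine top_le_iff.mp fun z _ => ?_
      obtain ⟨z, rfl⟩ := Ideal.Quotient.mk_surjective z
      letI := TopCat.Presheaf.algebra_section_stalk X.presheaf (⟨ξ, hξW i₀⟩ : W i₀)
      haveI := (hW i₀).isLocalization_stalk ⟨ξ, hξW i₀⟩
      obtain ⟨⟨c, d⟩, hcd⟩ :=
        IsLocalization.surj ((hW i₀).primeIdealOf ⟨ξ, hξW i₀⟩).asIdeal.primeCompl z
      have hd : ev d.1 ≠ 0 :=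
        ((IsLocalization.map_units (X.presheaf.stalk ξ) d).map (X.residue ξ).hom).ne_zero
      have h : (X.residue ξ).hom z * ev d.1 = ev c := by
        have := congrArg (X.residue ξ).hom hcd
        rwa [map_mul] at this
      change (X.residue ξ).hom z ∈ F
      rw [eq_div_of_mul_eq hd h]
      exact F.div_mem (hB _) (hB _)
    obtain ⟨A, hA, hOA, hmA, hsA⟩ := exists_dvr_of_mem_closure (ι := ι.hom) (s := sOf c)
      ⟨_, Finset.mem_image_of_mem _ (Finset.mem_univ ⟨i₀, hi₀t⟩)⟩
      (fun b hb => by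
        obtain ⟨i, -, rfl⟩ := Finset.mem_image.mp hb
        exact (Finset.mem_filter.mp (c i).2).2)
      _ hgen hc (O := Y.presheaf.stalk y) (Y.presheaf.stalkSpecializes hξ ≫ f.stalkMap ξ ≫ X.residue ξ).hom (by
        refine RingHom.ext fun a => ?_
        change X.residue ξ (f.stalkMap ξ (Y.presheaf.stalkSpecializes hξ (Y.presheaf.germ U y hyU a))) = _
        rw [Y.presheaf.germ_stalkSpecializes_apply hyU hξ, Scheme.Hom.germ_stalkMap_apply]
        rfl)
    obtain ⟨x, hxy, hx⟩ := H A hA hOA hmA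
    obtain ⟨i, hit, hxi⟩ := Set.mem_iUnion₂.mp (ht (show f x ∈ U from hxy.symm ▸ hyU))
    refine hsA (c ⟨i, hit⟩) (Finset.mem_image_of_mem _ (Finset.mem_univ _)) ?_
    obtain ⟨g, -, hg⟩ := Finset.mem_image.mp (Finset.mem_filter.mp (c ⟨i, hit⟩).2).1
    rw [← hg]
    have h1 := hx (X.presheaf.germ (W i) x hxi g)
    rw [CommRingCat.comp_apply, X.presheaf.germ_stalkSpecializes_apply hxi (genericPoint_specializes x)] at h1
    exact h1
  let U' : Y.Opens := ⟨hU.fromSpec '' Badᶜ, hU.fromSpec.isOpenEmbedding.isOpenMap _ hBad.isOpen_compl⟩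
  have hU'U : U' ≤ U := by
    rintro _ ⟨a, -, rfl⟩
    exact hU.range_fromSpec.le (Set.mem_range_self a)
  refine ⟨U', ⟨_, hyBad, hU.fromSpec_primeIdealOf _⟩, ?_⟩
  let X' := (f ⁻¹ᵁ U' : X.Opens)
  haveI : IsLocallyNoetherian (U' : Scheme.{u}) := inferInstance
  suffices hgen : HasGenericDvrLift (f ∣_ U') by
    haveI := universallyClosed_of_generic (f ∣_ U') hgen
    exact { }
  intro η hη A hA yA hyA
  haveI : Nonempty (X' : Scheme.{u}) := ⟨η⟩
  haveI : IsIntegral (X' : Scheme.{u}) := inferInstance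
  have hηξ : X'.ι η = ξ := by
    have h1 : η = genericPoint (X' : Scheme.{u}) := by
      rw [irreducibleComponents_eq_singleton, Set.mem_singleton_iff] at hη
      exact (show IsGenericPoint η (⊤ : Set (X' : Scheme.{u})) from hη).eq (genericPoint_spec _)
    rw [h1]
    exact genericPoint_eq_of_isOpenImmersion X'.ι
  let e : L ⟶ (X' : Scheme.{u}).residueField η :=
    (X.residueFieldCongr hηξ).inv ≫ X'.ι.residueFieldMap η
  have he : Spec.map e ≫ X.fromSpecResidueField ξ = (X' : Scheme.{u}).fromSpecResidueField η ≫ X'.ι := by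
    rw [← Scheme.Hom.SpecMap_residueFieldMap_fromSpecResidueField]
    simp only [e, Spec.map_comp, Category.assoc]
    congr 1
    rw [← Scheme.residueFieldCongr_fromSpecResidueField hηξ, ← Spec.map_comp_assoc, Iso.hom_inv_id,
      Spec.map_id, Category.id_comp]
  let AX : ValuationSubring L := A.comap e.hom
  let y' := yA ≫ U'.ι
  have hy'U : y' (closedPoint A) ∈ U := hU'U (yA (closedPoint A)).2
  obtain ⟨rA, hrA⟩ := exists_spec_map_eq (O := CommRingCat.of A) hU y' hy'U
  have hι : Spec.map ι ≫ hU.fromSpec = X.fromSpecResidueField ξ ≫ f := by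
    obtain ⟨i₀, hi₀t, hi₀⟩ := Set.mem_iUnion₂.mp (ht hξU)
    rw [← hcomp i₀, Spec.map_comp, Category.assoc, IsAffineOpen.SpecMap_appLE_fromSpec f hU (hW i₀) (hWU i₀),
      fromSpecResidueField_eq (hW i₀) ξ (hξW i₀), Category.assoc]
  have hrι : rA ≫ CommRingCat.ofHom A.subtype = ι ≫ e := by
    apply spec_map_inj hU
    rw [Spec.map_comp, Category.assoc, hrA, Spec.map_comp, Category.assoc, hι, reassoc_of% he,
      reassoc_of% hyA, morphismRestrict_ι]
  have hιA : ∀ r, ι r ∈ AX := fun r => by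
    change e (ι r) ∈ A
    have := congrArg (fun g : Γ(Y, U) ⟶ (X' : Scheme.{u}).residueField η => g r) hrι
    exact this ▸ (rA r).2
  have hcentre : ∃ i ∈ t, ∀ b, X.evaluation (W i) ξ (hξW i) b ∈ AX := by
    by_contra hno
    push Not at hno
    have hch : ∀ i : t, ∃ g : G' i.1, (g : L) ∉ AX := fun i => by
      obtain ⟨b, hb⟩ := hno i.1 i.2
      by_contra hall
      push Not at hall
      refine hb (hG i.1 AX hιA (fun g hg => ?_) b)
      by_cases h0 : X.evaluation (W i.1) ξ (hξW i.1) g = 0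
      · rw [h0]; exact zero_mem _
      · exact hall ⟨_, Finset.mem_filter.mpr ⟨Finset.mem_image_of_mem _ hg, h0⟩⟩
    choose c hc using hch
    have h1 := mem_avoidLocus (ι := ι.hom) (s := sOf c) AX hιA (fun b hb => by
      obtain ⟨i, -, rfl⟩ := Finset.mem_image.mp hb
      exact hc i)
    obtain ⟨a, ha, hay⟩ := (yA (closedPoint A)).2
    refine ha (Set.mem_iUnion.mpr ⟨c, subset_closure ?_⟩)
    rw [show a = _ from hU.fromSpec.isOpenEmbedding.injective (show hU.fromSpec a = hU.fromSpec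
      ⟨(maximalIdeal AX).comap (ι.hom.codRestrict AX.toSubring hιA), inferInstance⟩ from ?_)]
    · exact h1
    rw [hay]
    have h2 : y' (closedPoint A) = hU.fromSpec (Spec.map rA (closedPoint A)) := by
      rw [← Scheme.Hom.comp_apply, hrA]
    refine (h2.trans (congrArg hU.fromSpec ?_))
    apply PrimeSpectrum.ext
    ext r
    change rA r ∈ maximalIdeal A ↔ (⟨ι r, hιA r⟩ : AX) ∈ maximalIdeal AX
    have h3 : e (ι r) = (rA r : (X' : Scheme.{u}).residueField η) :=
      (congrArg (fun g : Γ(Y, U) ⟶ (X' : Scheme.{u}).residueField η => g r) hrι).symm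
    rw [IsLocalRing.mem_maximalIdeal, IsLocalRing.mem_maximalIdeal, mem_nonunits_iff, mem_nonunits_iff, not_iff_not]
    constructor
    · rintro ⟨w, hw⟩
      have hmem : e.hom ((ι r)⁻¹) ∈ A := by
        rw [map_inv₀, show e.hom (ι r) = (w : (X' : Scheme.{u}).residueField η) by rw [hw]; exact h3,
          ← eq_inv_of_mul_eq_one_right (congrArg Subtype.val w.mul_inv)]
        exact Subtype.mem _
      have h0 : ι r ≠ 0 := fun h0 => by
        have h5 : rA r = 0 := Subtype.ext (h3.symm.trans (by rw [h0, map_zero]; rfl))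
        exact w.ne_zero (hw.trans h5)
      exact IsUnit.of_mul_eq_one ⟨(ι r)⁻¹, hmem⟩ (Subtype.ext (mul_inv_cancel₀ h0))
    · intro hu
      have := hu.map (e.hom.comp AX.subtype |>.codRestrict A.toSubring fun a => a.2)
      rwa [show ((e.hom.comp AX.subtype).codRestrict A.toSubring fun a => a.2) ⟨ι r, hιA r⟩ = rA r from
        Subtype.ext h3] at this
  obtain ⟨i, hit, hi⟩ := hcentre
  let β : Γ(X, W i) ⟶ CommRingCat.of A :=
    CommRingCat.ofHom ((X.evaluation (W i) ξ (hξW i) ≫ e).hom.codRestrict A.toSubring hi)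
  let l := Spec.map β ≫ (hW i).fromSpec
  have hl1 : Spec.map (CommRingCat.ofHom A.subtype) ≫ l = (X' : Scheme.{u}).fromSpecResidueField η ≫ X'.ι := by
    rw [← Spec.map_comp_assoc, show β ≫ CommRingCat.ofHom A.subtype = X.evaluation (W i) ξ (hξW i) ≫ e from rfl,
      Spec.map_comp, Category.assoc, ← fromSpecResidueField_eq, he]
  have hl2 : l ≫ f = y' := by
    refine ext_of_mem (O := CommRingCat.of A) hU _ _ ?_ hy'U (CommRingCat.ofHom A.subtype) Subtype.val_injective ?_
    · rw [Category.assoc, Scheme.Hom.comp_apply, Scheme.Hom.comp_apply]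
      exact hWU i ((hW i).range_fromSpec.le (Set.mem_range_self _))
    · rw [reassoc_of% hl1, reassoc_of% hyA, morphismRestrict_ι]
  let l' := IsOpenImmersion.lift X'.ι l (by
    rintro _ ⟨a, rfl⟩
    rw [Scheme.Opens.range_ι]
    change f (l a) ∈ U'
    rw [← Scheme.Hom.comp_apply, hl2]
    exact (yA a).2)
  have hl' : l' ≫ X'.ι = l := IsOpenImmersion.lift_fac _ _ _
  refine ⟨l', ?_, ?_⟩
  · rw [← cancel_mono U'.ι, Category.assoc, morphismRestrict_ι, reassoc_of% hl', hl2]
  · rw [← cancel_mono X'.ι, Category.assoc, hl', hl1]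

end Scheme

end Groth.Agent.UnivClosed
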