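import Mathlib
import Groth.Agent.UnivClosed.Generic
import Groth.Agent.S9347

/-!
# The valuative criterion tested on a dense quasi-compact piece
-/

set_option linter.style.haveILetI false

universe u

namespace Groth.Agent.UnivClosed

open CategoryTheory CategoryTheory.Limits AlgebraicGeometry IsLocalRing

variable {U₀ X S : Scheme.{u}} (f : X ⟶ S) (h : U₀ ⟶ X)

/-- Lifts exist and are unique for valuation rings of the residue fields of `U₀`. -/
def HasDenseLift : Prop :=
  ∀ (u : U₀) (A : ValuationSubring (U₀.residueField u)) (y : Spec (CommRingCat.of A) ⟶ S),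
    Spec.map (CommRingCat.ofHom A.subtype) ≫ y = (U₀.fromSpecResidueField u ≫ h) ≫ f →
    ∃! l : Spec (CommRingCat.of A) ⟶ X,
      l ≫ f = y ∧ Spec.map (CommRingCat.ofHom A.subtype) ≫ l = U₀.fromSpecResidueField u ≫ h

/-- Lifts on a dense quasi-compact piece give universal closedness. -/
theorem universallyClosed_of_dense [QuasiCompact f] [QuasiCompact h] (hd : DenseRange h)
    (H : HasDenseLift f h) :
    UniversallyClosed f := by
  refine UniversallyClosed.of_valuativeCriterion f ?_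
  rintro ⟨A, K, x, y, ⟨w⟩⟩
  let x₀ : X := x (closedPoint K)
  let φK : X.residueField x₀ ⟶ CommRingCat.of K :=
    X.descResidueField (Scheme.stalkClosedPointTo x)
  have hφK : Spec.map φK ≫ X.fromSpecResidueField x₀ = x :=
    Scheme.descResidueField_stalkClosedPointTo_fromSpecResidueField K X x
  obtain ⟨U, hU, hsU, -⟩ := exists_isAffineOpen_mem_and_subset
    (U := (⊤ : S.Opens)) (x := y (closedPoint A)) trivial
  obtain ⟨r, hr⟩ := exists_spec_map_eq (O := CommRingCat.of A) hU y hsU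
  let pA := CommRingCat.ofHom (algebraMap A K)
  have hx₀U : x₀ ∈ f ⁻¹ᵁ U := by
    change f (x (closedPoint K)) ∈ U
    rw [← Scheme.Hom.comp_apply, w, ← hr, Scheme.Hom.comp_apply, Scheme.Hom.comp_apply]
    exact hU.range_fromSpec.le (Set.mem_range_self _)
  obtain ⟨W₀, hW₀, hx₀W, hW₀U⟩ := exists_isAffineOpen_mem_and_subset hx₀U
  have hcomp₀ : f.appLE U W₀ hW₀U ≫ X.evaluation W₀ x₀ hx₀W ≫ φK = r ≫ pA := by
    apply spec_map_inj hU
    simp only [Spec.map_comp, Category.assoc]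
    rw [IsAffineOpen.SpecMap_appLE_fromSpec f hU hW₀ hW₀U,
      ← reassoc_of% (fromSpecResidueField_eq hW₀ x₀ hx₀W), reassoc_of% hφK, hr]
    exact w
  -- a point of the dense piece
  obtain ⟨u, hux⟩ := S9347.exists_specializes_of_mem_closure_range h x₀ (hd x₀)
  let ψ : X.presheaf.stalk x₀ ⟶ U₀.residueField u :=
    X.presheaf.stalkSpecializes hux ≫ h.stalkMap u ≫ U₀.residue u
  have hψ : Spec.map ψ ≫ X.fromSpecStalk x₀ = U₀.fromSpecResidueField u ≫ h := by
    simp only [ψ, Spec.map_comp, Category.assoc]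
    rw [Scheme.SpecMap_stalkSpecializes_fromSpecStalk, Scheme.SpecMap_stalkMap_fromSpecStalk]
    simp [Scheme.fromSpecResidueField]
  obtain ⟨V₀, hV₀, hloc⟩ := IsLocalRing.exists_factor_valuationRing ψ.hom
  let ψ₀ : X.presheaf.stalk x₀ ⟶ CommRingCat.of V₀ :=
    CommRingCat.ofHom (ψ.hom.codRestrict V₀.toSubring hV₀)
  haveI : IsLocalHom ψ₀.hom := hloc
  let φ₀ : X.residueField x₀ →+* ResidueField V₀ := IsLocalRing.ResidueField.map ψ₀.hom
  -- the trace of `A` on the residue field of `x₀`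
  let A₀ : ValuationSubring (X.residueField x₀) :=
    ValuationSubring.comap ⟨(algebraMap A K).range, ValuationRing.isInteger_or_isInteger A⟩ φK.hom
  obtain ⟨A', hA', hloc'⟩ := IsLocalRing.exists_factor_valuationRing (φ₀.comp A₀.subtype)
  have hA₀ : ∀ a, φ₀ a ∈ A' → a ∈ A₀ := by
    intro a ha
    by_contra h
    have h1 := (A₀.mem_or_inv_mem a).resolve_left h
    have ha0 : a ≠ 0 := fun h0 => h (h0 ▸ zero_mem _)
    have h2 : IsUnit ((φ₀.comp A₀.subtype).codRestrict A'.toSubring hA' ⟨a⁻¹, h1⟩) := by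
      refine IsUnit.of_mul_eq_one ⟨φ₀ a, ha⟩ (Subtype.ext ?_)
      change φ₀ a⁻¹ * φ₀ a = 1
      rw [← map_mul, inv_mul_cancel₀ ha0, map_one]
    obtain ⟨w', hw'⟩ := hloc'.1 _ h2
    apply h
    have h3 : ((w' : A₀) : X.residueField x₀) * (w'⁻¹ : A₀ˣ) = 1 := congrArg Subtype.val w'.mul_inv
    rw [hw'] at h3
    rw [← mul_one a, ← h3, ← mul_assoc, mul_inv_cancel₀ ha0, one_mul]
    exact Subtype.mem _
  let V := composite V₀ A'
  let ι : Γ(S, U) ⟶ U₀.residueField u := f.appLE U W₀ hW₀U ≫ X.presheaf.germ W₀ x₀ hx₀W ≫ ψ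
  have hιV : ∀ a, ι a ∈ V := by
    intro a
    refine ⟨ψ₀ (X.presheaf.germ W₀ x₀ hx₀W (f.appLE U W₀ hW₀U a)), ?_, rfl⟩
    change φ₀ (X.evaluation W₀ x₀ hx₀W (f.appLE U W₀ hW₀U a)) ∈ A'
    exact hA' ⟨X.evaluation W₀ x₀ hx₀W (f.appLE U W₀ hW₀U a), r a, (congrArg (fun g : Γ(S, U) ⟶ CommRingCat.of K => g a) hcomp₀).symm⟩
  let rV : Γ(S, U) ⟶ CommRingCat.of V := CommRingCat.ofHom (ι.hom.codRestrict V.toSubring hιV)
  obtain ⟨l, ⟨hlf, hlK⟩, -⟩ := H u V (Spec.map rV ≫ hU.fromSpec) (by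
    rw [← Spec.map_comp_assoc, show rV ≫ CommRingCat.ofHom V.subtype = ι from rfl, ← hψ]
    simp only [ι, Spec.map_comp, Category.assoc]
    rw [IsAffineOpen.SpecMap_appLE_fromSpec f hU hW₀ hW₀U, ← reassoc_of% (fromSpecStalk_eq' hW₀ x₀ hx₀W)])
  have hlU : l (closedPoint V) ∈ f ⁻¹ᵁ U := by
    change f (l (closedPoint V)) ∈ U
    rw [← Scheme.Hom.comp_apply, hlf, Scheme.Hom.comp_apply]
    exact hU.range_fromSpec.le (Set.mem_range_self _)
  obtain ⟨W, hW, hzW, hWU⟩ := exists_isAffineOpen_mem_and_subset hlU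
  obtain ⟨β, hβ⟩ := exists_spec_map_eq (O := CommRingCat.of V) hW l hzW
  let incl : CommRingCat.of V ⟶ CommRingCat.of V₀ :=
    CommRingCat.ofHom (ValuationSubring.inclusion _ _ (composite_le V₀ A'))
  let m₀ : Spec (CommRingCat.of V₀) ⟶ X := Spec.map ψ₀ ≫ X.fromSpecStalk x₀
  have hm₀ : m₀ (closedPoint V₀) = x₀ := by
    have : Spec.map ψ₀ (closedPoint V₀) = closedPoint (X.presheaf.stalk x₀) :=
      IsLocalRing.comap_closedPoint ψ₀.hom
    rw [Scheme.Hom.comp_apply, this, Scheme.fromSpecStalk_closedPoint]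
  have hgen₀ : Spec.map (CommRingCat.ofHom V₀.subtype) ≫ Spec.map incl ≫ l =
      Spec.map (CommRingCat.ofHom V₀.subtype) ≫ m₀ := by
    rw [← Spec.map_comp_assoc, show incl ≫ CommRingCat.ofHom V₀.subtype = CommRingCat.ofHom V.subtype
      from rfl, hlK, ← Spec.map_comp_assoc,
      show ψ₀ ≫ CommRingCat.ofHom V₀.subtype = ψ from rfl, hψ]
  have h₀ : Spec.map incl ≫ l = m₀ := by
    have hm₀K : Spec.map (CommRingCat.ofHom V₀.subtype) ≫ m₀ = U₀.fromSpecResidueField u ≫ h := by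
      rw [← Spec.map_comp_assoc, show ψ₀ ≫ CommRingCat.ofHom V₀.subtype = ψ from rfl, hψ]
    obtain ⟨_, -, huniq⟩ := H u V₀ (m₀ ≫ f) (by rw [reassoc_of% hm₀K, Category.assoc])
    refine (huniq _ ⟨?_, hgen₀.trans hm₀K⟩).trans (huniq _ ⟨rfl, hm₀K⟩).symm
    refine ext_of_mem (O := CommRingCat.of V₀) hU _ _ ?_ ?_
      (CommRingCat.ofHom V₀.subtype) Subtype.val_injective (by
        have h1 := congrArg (· ≫ f) hgen₀
        simpa only [Category.assoc] using h1)
    · rw [Category.assoc, Scheme.Hom.comp_apply, hlf, Scheme.Hom.comp_apply]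
      exact hU.range_fromSpec.le (Set.mem_range_self _)
    · rw [Scheme.Hom.comp_apply, hm₀]
      exact hx₀U
  have hx₀W' : x₀ ∈ W := by
    rw [← hm₀, ← h₀, ← hβ, Scheme.Hom.comp_apply, Scheme.Hom.comp_apply]
    exact hW.range_fromSpec.le (Set.mem_range_self _)
  have hβ₀ : β ≫ incl = X.presheaf.germ W x₀ hx₀W' ≫ ψ₀ := by
    apply spec_map_inj hW
    rw [Spec.map_comp, Category.assoc, hβ, h₀, Spec.map_comp, Category.assoc,
      ← fromSpecStalk_eq' hW x₀ hx₀W']
  have hmem : ∀ c, φK (X.evaluation W x₀ hx₀W' c) ∈ (algebraMap A K).range := by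
    intro c
    refine hA₀ _ ?_
    have h1 : residue V₀ (incl (β c)) ∈ A' := residue_mem_of_mem_composite (β c).2
    rwa [show incl (β c) = ψ₀ (X.presheaf.germ W x₀ hx₀W' c) from
      congrArg (fun g : Γ(X, W) ⟶ CommRingCat.of V₀ => g c) hβ₀] at h1
  let e : A ≃+* (algebraMap A K).range :=
    RingEquiv.ofBijective (algebraMap A K).rangeRestrict
      ⟨fun a b h => IsFractionRing.injective A K (congrArg Subtype.val h),
        RingHom.rangeRestrict_surjective _⟩
  let γ : Γ(X, W) ⟶ CommRingCat.of A :=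
    CommRingCat.ofHom (e.symm.toRingHom.comp
      ((X.evaluation W x₀ hx₀W' ≫ φK).hom.codRestrict _ hmem))
  have hγ : γ ≫ pA = X.evaluation W x₀ hx₀W' ≫ φK := by
    ext c
    exact congrArg Subtype.val (e.apply_symm_apply ⟨_, hmem c⟩)
  have hfac : Spec.map pA ≫ Spec.map γ ≫ hW.fromSpec = x := by
    rw [← Spec.map_comp_assoc, hγ, Spec.map_comp, Category.assoc,
      ← fromSpecResidueField_eq hW x₀ hx₀W', hφK]
  refine ⟨⟨⟨Spec.map γ ≫ hW.fromSpec, hfac, ?_⟩⟩⟩
  refine ext_of_mem (O := CommRingCat.of A) hU _ _ ?_ hsU pA (IsFractionRing.injective A K) ?_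
  · rw [Category.assoc, Scheme.Hom.comp_apply, Scheme.Hom.comp_apply]
    exact hWU (hW.range_fromSpec.le (Set.mem_range_self _))
  · have h1 := congrArg (· ≫ f) hfac
    simp only [Category.assoc] at h1
    simpa only [Category.assoc] using h1.trans w

/-- Unique lifts on a dense quasi-compact piece give separatedness. -/
theorem isSeparated_of_dense [QuasiSeparated f] [QuasiCompact h] (hd : DenseRange h) (H : HasDenseLift f h) :
    IsSeparated f := by
  refine ⟨.of_isPreimmersion _ (isClosed_of_closure_subset fun z hz => ?_)⟩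
  let Δ := pullback.diagonal f
  have hz' : z ∈ closure (Set.range (h ≫ Δ)) := by
    have : Set.range (h ≫ Δ) = Δ '' Set.range h := by rw [← Set.range_comp]; rfl
    rw [this]
    refine closure_minimal ?_ isClosed_closure hz
    rintro _ ⟨a, rfl⟩
    exact image_closure_subset_closure_image Δ.continuous ⟨a, hd a, rfl⟩
  obtain ⟨u, hsp⟩ := S9347.exists_specializes_of_mem_closure_range (h ≫ Δ) z hz'
  obtain ⟨A, hA, hloc⟩ := IsLocalRing.exists_factor_valuationRing
    ((pullback f f).presheaf.stalkSpecializes hsp ≫ (h ≫ Δ).stalkMap u ≫ U₀.residue u).hom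
  let ψ : (pullback f f).presheaf.stalk z ⟶ CommRingCat.of A :=
    CommRingCat.ofHom (((pullback f f).presheaf.stalkSpecializes hsp ≫ (h ≫ Δ).stalkMap u ≫
      U₀.residue u).hom.codRestrict A.toSubring hA)
  haveI : IsLocalHom ψ.hom := hloc
  let m := Spec.map ψ ≫ (pullback f f).fromSpecStalk z
  have hm' : Spec.map (CommRingCat.ofHom A.subtype) ≫ m = U₀.fromSpecResidueField u ≫ h ≫ Δ := by
    rw [← Spec.map_comp_assoc, show ψ ≫ CommRingCat.ofHom A.subtype =
      (pullback f f).presheaf.stalkSpecializes hsp ≫ (h ≫ Δ).stalkMap u ≫ U₀.residue u from rfl]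
    simp only [Spec.map_comp, Category.assoc]
    rw [Scheme.SpecMap_stalkSpecializes_fromSpecStalk, Scheme.SpecMap_stalkMap_fromSpecStalk]
    simp [Scheme.fromSpecResidueField]
  have h1 : Spec.map (CommRingCat.ofHom A.subtype) ≫ m ≫ pullback.fst f f = U₀.fromSpecResidueField u ≫ h := by
    rw [reassoc_of% hm', pullback.diagonal_fst, Category.comp_id]
  have h2 : Spec.map (CommRingCat.ofHom A.subtype) ≫ m ≫ pullback.snd f f = U₀.fromSpecResidueField u ≫ h := by
    rw [reassoc_of% hm', pullback.diagonal_snd, Category.comp_id]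
  obtain ⟨_, -, huniq⟩ := H u A ((m ≫ pullback.fst f f) ≫ f) (by
    simpa only [Category.assoc] using congrArg (· ≫ f) h1)
  have h12 : m ≫ pullback.fst f f = m ≫ pullback.snd f f :=
    (huniq _ ⟨rfl, h1⟩).trans (huniq _ ⟨by simp [pullback.condition], h2⟩).symm
  have hmΔ : m = (m ≫ pullback.fst f f) ≫ Δ := by
    apply pullback.hom_ext
    · simp [Δ]
    · simp [Δ, h12]
  refine ⟨(m ≫ pullback.fst f f) (closedPoint A), ?_⟩
  rw [← Scheme.Hom.comp_apply, ← hmΔ]
  change (pullback f f).fromSpecStalk z (Spec.map ψ (closedPoint A)) = z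
  rw [show Spec.map ψ (closedPoint A) = closedPoint ((pullback f f).presheaf.stalk z) from
    IsLocalRing.comap_closedPoint ψ.hom]
  exact Scheme.fromSpecStalk_closedPoint

end Groth.Agent.UnivClosed
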