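import Groth.Agent.UnivClosed.Generic

/-!
# Universal closedness detected by valuation rings of the residue fields at generic points, over any base
-/

set_option linter.style.haveILetI false

universe u v

open CategoryTheory CategoryTheory.Limits AlgebraicGeometry IsLocalRing

namespace Groth.Agent.UnivClosed.GenericVal

open Groth.Agent.UnivClosed

variable {X S : Scheme.{u}} (f : X ⟶ S)

/-- Lifts at the generic points and separatedness give universal closedness. -/
theorem universallyClosed_of_generic [IsSeparated f] [LocallyOfFiniteType f] [QuasiCompact f]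
    (H : ∀ (η : X), closure {η} ∈ irreducibleComponents (X : Type u) →
    ∀ (A : ValuationSubring (X.residueField η)) (y : Spec (CommRingCat.of A) ⟶ S),
        Spec.map (CommRingCat.ofHom A.subtype) ≫ y = X.fromSpecResidueField η ≫ f →
        ∃ l : Spec (CommRingCat.of A) ⟶ X,
          l ≫ f = y ∧ Spec.map (CommRingCat.ofHom A.subtype) ≫ l = X.fromSpecResidueField η) :
    UniversallyClosed f := by
  refine UniversallyClosed.of_valuativeCriterion f ?_
  rintro ⟨A, K, x, y, ⟨w⟩⟩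
  let x₀ : X := x (closedPoint K)
  let φK : X.residueField x₀ ⟶ CommRingCat.of K :=
    X.descResidueField (Scheme.stalkClosedPointTo x)
  have hφK : Spec.map φK ≫ X.fromSpecResidueField x₀ = x :=
    Scheme.descResidueField_stalkClosedPointTo_fromSpecResidueField K X x
  obtain ⟨U, hU, hsU, -⟩ := exists_isAffineOpen_mem_and_subset
    (U := (⊤ : S.Opens)) (x := y (closedPoint A)) trivial
  obtain ⟨r, hr⟩ := exists_spec_map_eq (O := CommRingCat.of A) hU y hsU
  let pA := CommRingCat.ofHom (algebraMap A K)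
  have hx₀U : x₀ ∈ f ⁻¹ᵁ U := by
    change f (x (closedPoint K)) ∈ U
    rw [← Scheme.Hom.comp_apply, w, ← hr, Scheme.Hom.comp_apply, Scheme.Hom.comp_apply]
    exact hU.range_fromSpec.le (Set.mem_range_self _)
  obtain ⟨W₀, hW₀, hx₀W, hW₀U⟩ := exists_isAffineOpen_mem_and_subset hx₀U
  have hcomp₀ : f.appLE U W₀ hW₀U ≫ X.evaluation W₀ x₀ hx₀W ≫ φK = r ≫ pA := by
    apply spec_map_inj hU
    simp only [Spec.map_comp, Category.assoc]
    rw [IsAffineOpen.SpecMap_appLE_fromSpec f hU hW₀ hW₀U,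
      ← reassoc_of% (fromSpecResidueField_eq hW₀ x₀ hx₀W), reassoc_of% hφK, hr]
    exact w
  -- the generic point
  obtain ⟨η, hη, hηx⟩ : ∃ η : X, closure {η} ∈ irreducibleComponents (X : Type u) ∧ η ⤳ x₀ := by
    have hZ := irreducibleComponent_mem_irreducibleComponents x₀
    obtain ⟨η, hη⟩ := QuasiSober.sober hZ.1 (isClosed_of_mem_irreducibleComponents _ hZ)
    exact ⟨η, (show closure {η} = irreducibleComponent x₀ from hη) ▸ hZ,
      hη.specializes mem_irreducibleComponent⟩
  obtain ⟨V₀, hV₀, hloc⟩ := IsLocalRing.exists_factor_valuationRing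
    (X.presheaf.stalkSpecializes hηx ≫ X.residue η).hom
  let ψ₀ : X.presheaf.stalk x₀ ⟶ CommRingCat.of V₀ :=
    CommRingCat.ofHom ((X.presheaf.stalkSpecializes hηx ≫ X.residue η).hom.codRestrict V₀.toSubring hV₀)
  haveI : IsLocalHom ψ₀.hom := hloc
  let φ₀ : X.residueField x₀ →+* ResidueField V₀ := IsLocalRing.ResidueField.map ψ₀.hom
  -- the trace of `A` on the residue field of `x₀`
  let A₀ : ValuationSubring (X.residueField x₀) :=
    ValuationSubring.comap ⟨(algebraMap A K).range, ValuationRing.isInteger_or_isInteger A⟩ φK.hom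
  obtain ⟨A', hA', hloc'⟩ := IsLocalRing.exists_factor_valuationRing (φ₀.comp A₀.subtype)
  have hA₀ : ∀ a, φ₀ a ∈ A' → a ∈ A₀ := by
    intro a ha
    by_contra h
    have h1 := (A₀.mem_or_inv_mem a).resolve_left h
    have ha0 : a ≠ 0 := fun h0 => h (h0 ▸ zero_mem _)
    have h2 : IsUnit ((φ₀.comp A₀.subtype).codRestrict A'.toSubring hA' ⟨a⁻¹, h1⟩) := by
      refine IsUnit.of_mul_eq_one ⟨φ₀ a, ha⟩ (Subtype.ext ?_)
      change φ₀ a⁻¹ * φ₀ a = 1
      rw [← map_mul, inv_mul_cancel₀ ha0, map_one]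
    obtain ⟨w', hw'⟩ := hloc'.1 _ h2
    apply h
    have h3 : ((w' : A₀) : X.residueField x₀) * (w'⁻¹ : A₀ˣ) = 1 := congrArg Subtype.val w'.mul_inv
    rw [hw'] at h3
    rw [← mul_one a, ← h3, ← mul_assoc, mul_inv_cancel₀ ha0, one_mul]
    exact Subtype.mem _
  let V := composite V₀ A'
  have hηW : η ∈ W₀ := hηx.mem_open W₀.isOpen hx₀W
  let ι : Γ(S, U) ⟶ X.residueField η := f.appLE U W₀ hW₀U ≫ X.evaluation W₀ η hηW
  have hιψ : ∀ c, X.evaluation W₀ η hηW c = (ψ₀ (X.presheaf.germ W₀ x₀ hx₀W c) : X.residueField η) := by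
    intro c
    change X.residue η (X.presheaf.germ W₀ η hηW c) =
      X.residue η (X.presheaf.stalkSpecializes hηx (X.presheaf.germ W₀ x₀ hx₀W c))
    rw [X.presheaf.germ_stalkSpecializes_apply hx₀W hηx]
  have hιV : ∀ a, ι a ∈ V := by
    intro a
    refine ⟨ψ₀ (X.presheaf.germ W₀ x₀ hx₀W (f.appLE U W₀ hW₀U a)), ?_, (hιψ _).symm⟩
    change φ₀ (X.evaluation W₀ x₀ hx₀W (f.appLE U W₀ hW₀U a)) ∈ A'
    exact hA' ⟨X.evaluation W₀ x₀ hx₀W (f.appLE U W₀ hW₀U a), r a, (congrArg (fun g : Γ(S, U) ⟶ CommRingCat.of K => g a) hcomp₀).symm⟩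
  let rV : Γ(S, U) ⟶ CommRingCat.of V := CommRingCat.ofHom (ι.hom.codRestrict V.toSubring hιV)
  obtain ⟨l, hlf, hlK⟩ := H η hη V (Spec.map rV ≫ hU.fromSpec) (by
    rw [← Spec.map_comp_assoc, show rV ≫ CommRingCat.ofHom V.subtype = ι from rfl, Spec.map_comp,
      Category.assoc, IsAffineOpen.SpecMap_appLE_fromSpec f hU hW₀ hW₀U,
      ← reassoc_of% (fromSpecResidueField_eq hW₀ η hηW)])
  have hlU : l (closedPoint V) ∈ f ⁻¹ᵁ U := by
    change f (l (closedPoint V)) ∈ U
    rw [← Scheme.Hom.comp_apply, hlf, Scheme.Hom.comp_apply]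
    exact hU.range_fromSpec.le (Set.mem_range_self _)
  obtain ⟨W, hW, hzW, hWU⟩ := exists_isAffineOpen_mem_and_subset hlU
  obtain ⟨β, hβ⟩ := exists_spec_map_eq (O := CommRingCat.of V) hW l hzW
  let incl : CommRingCat.of V ⟶ CommRingCat.of V₀ :=
    CommRingCat.ofHom (ValuationSubring.inclusion _ _ (composite_le V₀ A'))
  let m₀ : Spec (CommRingCat.of V₀) ⟶ X := Spec.map ψ₀ ≫ X.fromSpecStalk x₀
  have hm₀ : m₀ (closedPoint V₀) = x₀ := by
    have : Spec.map ψ₀ (closedPoint V₀) = closedPoint (X.presheaf.stalk x₀) :=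
      IsLocalRing.comap_closedPoint ψ₀.hom
    rw [Scheme.Hom.comp_apply, this, Scheme.fromSpecStalk_closedPoint]
  have hgen₀ : Spec.map (CommRingCat.ofHom V₀.subtype) ≫ Spec.map incl ≫ l =
      Spec.map (CommRingCat.ofHom V₀.subtype) ≫ m₀ := by
    rw [← Spec.map_comp_assoc, show incl ≫ CommRingCat.ofHom V₀.subtype = CommRingCat.ofHom V.subtype
      from rfl, hlK, ← Spec.map_comp_assoc,
      show ψ₀ ≫ CommRingCat.ofHom V₀.subtype = X.presheaf.stalkSpecializes hηx ≫ X.residue η from rfl,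
      Spec.map_comp, Category.assoc, Scheme.SpecMap_stalkSpecializes_fromSpecStalk]
    rfl
  haveI : IsDominant (Spec.map (CommRingCat.ofHom V₀.subtype)) := by
    refine ⟨(PrimeSpectrum.denseRange_comap_iff_ker_le_nilRadical _).mpr ?_⟩
    rw [show RingHom.ker (CommRingCat.ofHom V₀.subtype).hom = ⊥ from
      (RingHom.injective_iff_ker_eq_bot _).mp Subtype.val_injective]
    exact bot_le
  have h₀ : Spec.map incl ≫ l = m₀ := by
    refine ext_of_isDominant_of_isSeparated f ?_ (Spec.map (CommRingCat.ofHom V₀.subtype)) hgen₀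
    refine ext_of_mem (O := CommRingCat.of V₀) hU _ _ ?_ ?_
      (CommRingCat.ofHom V₀.subtype) Subtype.val_injective (by
        have h1 := congrArg (· ≫ f) hgen₀
        simpa only [Category.assoc] using h1)
    · rw [Category.assoc, Scheme.Hom.comp_apply, hlf, Scheme.Hom.comp_apply]
      exact hU.range_fromSpec.le (Set.mem_range_self _)
    · rw [Scheme.Hom.comp_apply, hm₀]
      exact hx₀U
  have hx₀W' : x₀ ∈ W := by
    rw [← hm₀, ← h₀, ← hβ, Scheme.Hom.comp_apply, Scheme.Hom.comp_apply]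
    exact hW.range_fromSpec.le (Set.mem_range_self _)
  have hβ₀ : β ≫ incl = X.presheaf.germ W x₀ hx₀W' ≫ ψ₀ := by
    apply spec_map_inj hW
    rw [Spec.map_comp, Category.assoc, hβ, h₀, Spec.map_comp, Category.assoc,
      ← fromSpecStalk_eq' hW x₀ hx₀W']
  have hmem : ∀ c, φK (X.evaluation W x₀ hx₀W' c) ∈ (algebraMap A K).range := by
    intro c
    refine hA₀ _ ?_
    have h1 : residue V₀ (incl (β c)) ∈ A' := residue_mem_of_mem_composite (β c).2
    rwa [show incl (β c) = ψ₀ (X.presheaf.germ W x₀ hx₀W' c) from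
      congrArg (fun g : Γ(X, W) ⟶ CommRingCat.of V₀ => g c) hβ₀] at h1
  let e : A ≃+* (algebraMap A K).range :=
    RingEquiv.ofBijective (algebraMap A K).rangeRestrict
      ⟨fun a b h => IsFractionRing.injective A K (congrArg Subtype.val h),
        RingHom.rangeRestrict_surjective _⟩
  let γ : Γ(X, W) ⟶ CommRingCat.of A :=
    CommRingCat.ofHom (e.symm.toRingHom.comp
      ((X.evaluation W x₀ hx₀W' ≫ φK).hom.codRestrict _ hmem))
  have hγ : γ ≫ pA = X.evaluation W x₀ hx₀W' ≫ φK := by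
    ext c
    exact congrArg Subtype.val (e.apply_symm_apply ⟨_, hmem c⟩)
  have hfac : Spec.map pA ≫ Spec.map γ ≫ hW.fromSpec = x := by
    rw [← Spec.map_comp_assoc, hγ, Spec.map_comp, Category.assoc,
      ← fromSpecResidueField_eq hW x₀ hx₀W', hφK]
  refine ⟨⟨⟨Spec.map γ ≫ hW.fromSpec, hfac, ?_⟩⟩⟩
  refine ext_of_mem (O := CommRingCat.of A) hU _ _ ?_ hsU pA (IsFractionRing.injective A K) ?_
  · rw [Category.assoc, Scheme.Hom.comp_apply, Scheme.Hom.comp_apply]
    exact hWU (hW.range_fromSpec.le (Set.mem_range_self _))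
  · have h1 := congrArg (· ≫ f) hfac
    simp only [Category.assoc] at h1
    simpa only [Category.assoc] using h1.trans w

end Groth.Agent.UnivClosed.GenericVal
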